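import Cfsg.Agent.Lib.Golay.Stabilizers
import Cfsg.Agent.Lib.Leech.CodeSets
import Cfsg.Agent.Lib.SporStruct.Masks
import Cfsg.Agent.Lib.SporStruct.OctadStab

/-!
The base octad, the code sets off it, and the action of its pointwise stabiliser on them.
-/

set_option autoImplicit false

namespace Cfsg.Agent.Lib.Co2Cent

open Cfsg Cfsg.Agent.Lib.Golay Cfsg.Agent.Lib.Leech Cfsg.Agent.Lib.SporStruct.Masks
open scoped Pointwise

/-- The octad. -/
abbrev oct : Finset GolayPt := baseOctad

/-- The points of the octad. -/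
def pts : Fin 8 → GolayPt :=
  ![none, some 0, some 1, some 2, some 3, some 5, some 14, some 17]

theorem pts_inj : Function.Injective pts := by decide +kernel

theorem mem_oct_iff : ∀ p : GolayPt, p ∈ oct ↔ ∃ i, pts i = p := by decide +kernel

theorem pts_mem (i : Fin 8) : pts i ∈ oct := (mem_oct_iff _).2 ⟨i, rfl⟩

theorem pts_image : Finset.univ.image pts = oct := by decide +kernel

theorem sum_oct {M : Type*} [AddCommMonoid M] (f : GolayPt → M) (hf : ∀ p, p ∉ oct → f p = 0) :
    ∑ p, f p = ∑ i, f (pts i) := by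
  rw [← Finset.sum_subset (Finset.subset_univ oct) (fun p _ hp => hf p hp), ← pts_image,
    Finset.sum_image pts_inj.injOn]

theorem isCode_mask {m : ℕ} (h : inCode m = true) : IsCode (setOfMask m) := by
  obtain ⟨k, hk, rfl⟩ := inCode_iff.mp h
  refine ⟨wordOfMask (enc k), ?_, support₂_wordOfMask _⟩
  show wordOfMask (enc k) ∈ golayCode
  rw [golayCode_eq_maskCode]
  exact ⟨k, hk, rfl⟩

theorem exists_mask {s : Finset GolayPt} (h : IsCode s) : ∃ k < 4096, s = setOfMask (enc k) := by
  obtain ⟨w, hw, rfl⟩ := h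
  have hw' : w ∈ maskCode := by rw [← golayCode_eq_maskCode]; exact hw
  obtain ⟨k, hk, rfl⟩ := hw'
  exact ⟨k, hk, support₂_wordOfMask _⟩

theorem and_eq_iff {k : ℕ} (hk : k < 4096) (m : ℕ) (hm : m < 2 ^ 24) :
    enc k &&& 8536111 = m ↔ setOfMask (enc k) ∩ oct = setOfMask m := by
  rw [oct, baseOctad, ← setOfMask_and]
  exact ⟨fun h => h ▸ rfl,
    fun h => setOfMask_injOn (lt_of_le_of_lt Nat.and_le_left (enc_lt hk)) hm h⟩

theorem sub_test : ((List.range 4096).all fun k =>
    !(Nat.beq (enc k &&& 8536111) (enc k)) || Nat.beq (enc k) 0 || Nat.beq (enc k) 8536111)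
      = true := by decide +kernel

/-- The only code sets inside an octad are the trivial ones. -/
theorem code_sub {s : Finset GolayPt} (h : IsCode s) (hs : s ⊆ oct) : s = ∅ ∨ s = oct := by
  obtain ⟨k, hk, rfl⟩ := exists_mask h
  have e : enc k &&& 8536111 = enc k :=
    (and_eq_iff hk _ (enc_lt hk)).2 (Finset.inter_eq_left.2 hs)
  have t := List.all_eq_true.mp sub_test k (List.mem_range.mpr hk)
  simp only [Bool.or_eq_true, Bool.not_eq_true', Nat.beq_eq, e] at t
  rcases t with (t | t) | t
  · exact absurd t (by simp)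
  · left; rw [t, setOfMask_zero]
  · right; rw [t]; rfl

/-- Code sets off the octad. -/
def Off (s : Finset GolayPt) : Prop := IsCode s ∧ ∀ p ∈ s, p ∉ oct

theorem off_iff {k : ℕ} (hk : k < 4096) :
    Off (setOfMask (enc k)) ↔ enc k &&& 8536111 = 0 := by
  rw [and_eq_iff hk 0 (by norm_num), setOfMask_zero, ← Finset.disjoint_iff_inter_eq_empty,
    Finset.disjoint_left]
  exact ⟨fun h => h.2, fun h => ⟨isCode_mask (inCode_enc hk), h⟩⟩

theorem off_count :
    ((Finset.range 4096).filter fun k => enc k &&& 8536111 = 0).card = 32 := by decide +kernel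

theorem card_off : Nat.card {s : Finset GolayPt // Off s} = 32 := by
  rw [← off_count, ← Nat.card_eq_finsetCard]
  refine (Nat.card_eq_of_bijective
    (fun k : {k // k ∈ (Finset.range 4096).filter fun k => enc k &&& 8536111 = 0} =>
      (⟨setOfMask (enc k.1), (off_iff (Finset.mem_range.1 (Finset.mem_filter.1 k.2).1)).2
        (Finset.mem_filter.1 k.2).2⟩ : {s : Finset GolayPt // Off s})) ⟨?_, ?_⟩).symm
  · rintro ⟨a, ha⟩ ⟨b, hb⟩ h
    have ha' := Finset.mem_range.1 (Finset.mem_filter.1 ha).1
    have hb' := Finset.mem_range.1 (Finset.mem_filter.1 hb).1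
    have h' := setOfMask_injOn (enc_lt ha') (enc_lt hb') (congrArg Subtype.val h)
    apply Subtype.ext
    show a = b
    rw [← enc_mod ha', ← enc_mod hb', h']
  · rintro ⟨s, hs⟩
    obtain ⟨k, hk, rfl⟩ := exists_mask hs.1
    exact ⟨⟨k, Finset.mem_filter.2 ⟨Finset.mem_range.2 hk, (off_iff hk).1 hs⟩⟩, rfl⟩

/-- The codes of the pointwise stabiliser. -/
theorem exists_fixCode {σ : Equiv.Perm GolayPt} (hσ : σ ∈ octadFix oct) :
    ∃ c ∈ fiveFixers, σ = gperm c ∧ imgCode c basePt6 = basePt6 := by
  obtain ⟨hM, hf⟩ := mem_octadFix.1 hσ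
  obtain ⟨c, hc, rfl⟩ := exists_fiveFixer hM fun i => hf _ (baseFive_mem i)
  refine ⟨c, hc, rfl, ?_⟩
  have hspec := List.all_eq_true.mp fiveFixers_spec c hc
  simp only [Bool.and_eq_true] at hspec
  rw [← gperm_apply (okCode_of_inM24 hspec.1)]
  exact hf _ basePt6_mem.1

theorem okCode_fixer {c : ℕ} (hc : c ∈ fiveFixers) : okCode c = true := by
  have hspec := List.all_eq_true.mp fiveFixers_spec c hc
  simp only [Bool.and_eq_true] at hspec
  exact okCode_of_inM24 hspec.1

theorem move_test : ((fiveFixers.filter fun c => imgCode c basePt6 = basePt6).all fun c =>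
    ((List.range 4096).all fun k => !(Nat.beq (enc k &&& 8536111) 0) ||
      Nat.beq (permMask c (enc k)) (enc k) ||
      Nat.beq (permMask c (enc k)) (enc k ^^^ 8241104)) &&
    (Nat.beq c oneCode || (List.range 4096).any fun k =>
      Nat.beq (enc k &&& 8536111) 0 && !(Nat.beq (permMask c (enc k)) (enc k)))) = true := by
  decide +kernel

theorem compl_mask : setOfMask 8241104 = octᶜ := by decide +kernel

/-- A pointwise stabiliser element fixes a code set off the octad or complements it there. -/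
theorem smul_off {σ : Equiv.Perm GolayPt} (hσ : σ ∈ octadFix oct) {s : Finset GolayPt}
    (hs : Off s) : σ • s = s ∨ σ • s = symmDiff s octᶜ := by
  obtain ⟨c, hc, rfl, h6⟩ := exists_fixCode hσ
  obtain ⟨k, hk, rfl⟩ := exists_mask hs.1
  have t := List.all_eq_true.mp move_test c (List.mem_filter.2 ⟨hc, by simpa using h6⟩)
  simp only [Bool.and_eq_true, List.all_eq_true, List.mem_range] at t
  have t' := t.1 k hk
  simp only [Bool.or_eq_true, Bool.not_eq_true', Nat.beq_eq, (off_iff hk).1 hs] at t'
  rw [smul_setOfMask (okCode_fixer hc)]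
  rcases t' with (t' | t') | t'
  · exact absurd t' (by simp)
  · left; rw [t']
  · right
    rw [t', ← compl_mask]
    ext p
    simp [Finset.mem_symmDiff, Nat.testBit_xor]
    cases (enc k).testBit (idx p) <;> cases (8241104 : ℕ).testBit (idx p) <;> simp

/-- A nontrivial pointwise stabiliser element moves some code set off the octad. -/
theorem exists_moved {σ : Equiv.Perm GolayPt} (hσ : σ ∈ octadFix oct) (h1 : σ ≠ 1) :
    ∃ s, Off s ∧ σ • s ≠ s := by
  obtain ⟨c, hc, rfl, h6⟩ := exists_fixCode hσ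
  have t := List.all_eq_true.mp move_test c (List.mem_filter.2 ⟨hc, by simpa using h6⟩)
  simp only [Bool.and_eq_true, Bool.or_eq_true, List.any_eq_true, List.mem_range, Nat.beq_eq,
    Bool.not_eq_true', List.all_eq_true] at t
  rcases t.2 with h | ⟨k, hk, hoff, hne⟩
  · exact absurd (by rw [h, gperm_oneCode]) h1
  · refine ⟨_, (off_iff hk).2 hoff, fun h => ?_⟩
    rw [smul_setOfMask (okCode_fixer hc)] at h
    have := setOfMask_injOn (permMask_lt (okCode_fixer hc) _) (enc_lt hk) h
    rw [this] at hne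
    simp at hne

theorem off_compl : Off octᶜ := by
  refine ⟨?_, fun p hp => Finset.mem_compl.1 hp⟩
  rw [← compl_mask]
  exact isCode_mask (by decide +kernel)

theorem oct_isCode : IsCode oct := baseOctad_mem.1

end Cfsg.Agent.Lib.Co2Cent
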