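import Cfsg.Agent.Lib.Co2Cent.Vec

/-!
The centraliser of the involution in the stabiliser of the vector, its action on the symplectic
space, and the kernel of this action.
-/

set_option autoImplicit false

namespace Cfsg.Agent.Lib.Co2Cent

open Cfsg Cfsg.Agent.Lib.Leech Cfsg.Agent.Lib.Symplectic Cfsg.Agent.Lib.Golay
open Cfsg.Agent.Lib.SporStruct
open scoped Pointwise

/-- The involution in the lattice group: negation off the octad. -/
noncomputable def t0 : Co0 := flip octᶜ off_compl.1

theorem vec_t0 (v : leechLattice) (p : GolayPt) :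
    vec (t0 • v) p = if p ∈ oct then vec v p else -vec v p := by
  rw [t0, flip_smul]
  by_cases h : p ∈ oct
  · rw [if_pos h, if_neg (fun h' => Finset.mem_compl.1 h' h)]
  · rw [if_neg h, if_pos (Finset.mem_compl.2 h)]

theorem t0_fix {v : leechLattice} (hv : OnOct v) : t0 • v = v := by
  apply Subtype.ext
  funext p
  show vec (t0 • v) p = vec v p
  rw [vec_t0]
  by_cases h : p ∈ oct
  · rw [if_pos h]
  · rw [if_neg h, hv p h]; rfl

theorem onOct_of_fix {v : leechLattice} (h : t0 • v = v) : OnOct v := by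
  intro p hp
  have e := congrFun (congrArg vec h) p
  rw [vec_t0, if_neg hp] at e
  omega

/-- The involution of the group. -/
noncomputable def tt : ↥Spor.Co2 :=
  ⟨(t0 : Equiv.Perm leechLattice), t0.2, MulAction.mem_stabilizer_iff.2 (t0_fix onOct_uu)⟩

/-- Its centraliser. -/
noncomputable abbrev C : Subgroup ↥Spor.Co2 := Subgroup.centralizer ({tt} : Set ↥Spor.Co2)

/-- The underlying lattice automorphism. -/
noncomputable def toCo0 : C →* Co0 where
  toFun g := ⟨((g : ↥Spor.Co2) : Equiv.Perm leechLattice), (g : ↥Spor.Co2).2.1⟩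
  map_one' := rfl
  map_mul' _ _ := rfl

theorem toCo0_injective : Function.Injective toCo0 := fun _ _ h =>
  Subtype.ext (Subtype.ext (congrArg (fun x : Co0 => (x : Equiv.Perm leechLattice)) h))

theorem fix_uu (g : C) : toCo0 g • uu = uu :=
  MulAction.mem_stabilizer_iff.1 (g : ↥Spor.Co2).2.2

theorem comm_t0 (g : C) : toCo0 g * t0 = t0 * toCo0 g := by
  have h := Subgroup.mem_centralizer_singleton_iff.1 g.2
  exact Subtype.ext (congrArg (fun x : ↥Spor.Co2 => (x : Equiv.Perm leechLattice)) h)

/-- An element of the centraliser from a lattice automorphism. -/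
noncomputable def mkC (g : Co0) (hu : g • uu = uu) (hc : g * t0 = t0 * g) : C :=
  ⟨⟨(g : Equiv.Perm leechLattice), g.2, MulAction.mem_stabilizer_iff.2 hu⟩,
    Subgroup.mem_centralizer_singleton_iff.2
      (Subtype.ext (congrArg (fun x : Co0 => (x : Equiv.Perm leechLattice)) hc))⟩

theorem toCo0_mkC (g : Co0) (hu : g • uu = uu) (hc : g * t0 = t0 * g) :
    toCo0 (mkC g hu hc) = g := rfl

theorem onOct_act (g : C) {v : leechLattice} (hv : OnOct v) : OnOct (toCo0 g • v) := by
  apply onOct_of_fix
  rw [← mul_smul, ← comm_t0, mul_smul, t0_fix hv]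

theorem dot_uu (v : leechLattice) :
    dotInt (vec uu) (vec v) = 4 * (vec v none + vec v (some 0)) := by
  rw [dot_coord onOct_uu, coord_uu, Fin.sum_univ_eight]
  simp [coord, pts]
  ring

theorem inW_act (g : C) {v : leechLattice} (hv : InW v) : InW (toCo0 g • v) := by
  refine ⟨onOct_act g hv.1, ?_⟩
  have h := dot_smul (toCo0 g) uu v
  rw [fix_uu, dot_uu, dot_uu, hv.2] at h
  omega

theorem phi_double {v z : leechLattice} (hz : OnOct z) (h : v = z + z ∨ v = uu + (z + z)) :
    phi v = 0 := by
  obtain ⟨he, hf, hs⟩ := cong_of_onOct hz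
  rw [Fin.sum_univ_eight] at hs
  funext k
  simp only [phi, Pi.zero_apply, ZMod.intCast_zmod_eq_zero_iff_dvd]
  have := he 0; have := hf 1; have := hf 2; have := hf 3; have := hf 4; have := hf 5
  have := hf 6; have := hf 7
  rcases h with rfl | rfl <;> simp only [coord_add, coord_uu] <;>
    rcases k with k | k <;> fin_cases k <;> simp [pair6] <;> omega

theorem phi_act_congr (g : C) {v w : leechLattice} (hv : InW v) (hw : InW w)
    (h : phi v = phi w) : phi (toCo0 g • v) = phi (toCo0 g • w) := by
  obtain ⟨z, hz, e⟩ := phi_eq_zero (inW_sub hv hw) (by rw [phi_sub hv hw, h, sub_self])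
  have h0 : phi (toCo0 g • (v - w)) = 0 := by
    refine phi_double (z := toCo0 g • z) (onOct_act g hz) ?_
    rcases e with e | e
    · left; rw [e, smul_add']
    · right; rw [e, smul_add', smul_add', fix_uu]
  rw [smul_sub', phi_sub (inW_act g hv) (inW_act g hw)] at h0
  exact sub_eq_zero.1 h0

/-- The induced map on the symplectic space. -/
noncomputable def act (g : C) (c : V6) : V6 := phi (toCo0 g • lift c)

theorem act_phi (g : C) {v : leechLattice} (hv : InW v) :
    act g (phi v) = phi (toCo0 g • v) :=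
  phi_act_congr g (inW_lift _) hv (phi_lift _)

theorem act_add (g : C) (c d : V6) : act g (c + d) = act g c + act g d := by
  have h : phi (lift c + lift d) = c + d := by
    rw [phi_add (inW_lift c) (inW_lift d), phi_lift, phi_lift]
  rw [← h, act_phi g (inW_add (inW_lift c) (inW_lift d)), smul_add',
    phi_add (inW_act g (inW_lift c)) (inW_act g (inW_lift d))]
  rfl

theorem act_mul (g h : C) (c : V6) : act (g * h) c = act g (act h c) := by
  show _ = act g (phi (toCo0 h • lift c))
  rw [act_phi g (inW_act h (inW_lift c))]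
  show phi (toCo0 (g * h) • lift c) = _
  rw [map_mul, mul_smul]

theorem act_one (c : V6) : act 1 c = c := by
  show phi (toCo0 1 • lift c) = c
  rw [map_one, one_smul, phi_lift]

/-- The linear map of an element. -/
noncomputable def actLin (g : C) : V6 →ₗ[ZMod 2] V6 :=
  AddMonoidHom.toZModLinearMap 2 (AddMonoidHom.mk' (act g) (act_add g))

/-- The linear automorphism of an element. -/
noncomputable def actEquiv (g : C) : V6 ≃ₗ[ZMod 2] V6 :=
  LinearEquiv.ofLinearMap (actLin g) (actLin g⁻¹)
    (LinearMap.ext fun c => by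
      show act g (act g⁻¹ c) = c
      rw [← act_mul, mul_inv_cancel, act_one])
    (LinearMap.ext fun c => by
      show act g⁻¹ (act g c) = c
      rw [← act_mul, inv_mul_cancel, act_one])

theorem actEquiv_mem (g : C) : actEquiv g ∈ Isom (stdForm 3 (ZMod 2)) := by
  intro c d
  show stdForm 3 (ZMod 2) (act g c) (act g d) = _
  rw [act, act, pairing_eq (inW_act g (inW_lift c)) (inW_act g (inW_lift d))]
  conv_rhs => rw [← phi_lift c, ← phi_lift d, pairing_eq (inW_lift c) (inW_lift d)]
  simp only [pairing, dot_smul]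

/-- The action as a homomorphism into the isometry group. -/
noncomputable def rho : C →* Isom (stdForm 3 (ZMod 2)) :=
  MonoidHom.mk' (fun g => ⟨actEquiv g, actEquiv_mem g⟩) fun g h => by
    apply isom_ext
    intro c
    exact act_mul g h c

theorem rho_smul (g : C) (c : V6) : rho g • c = act g c := rfl

theorem vec_monomial {σ : Equiv.Perm GolayPt} (hσ : σ ∈ M24) {s : Finset GolayPt} (hs : IsCode s)
    (v : leechLattice) (p : GolayPt) :
    vec (monomial σ hσ s hs • v) p = if p ∈ s then -vec v (σ.symm p) else vec v (σ.symm p) := rfl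

theorem monomial_congr {σ σ' : Equiv.Perm GolayPt} {hσ : σ ∈ M24} {hσ' : σ' ∈ M24}
    {s s' : Finset GolayPt} {hs : IsCode s} {hs' : IsCode s'} (e1 : σ = σ') (e2 : s = s') :
    monomial σ hσ s hs = monomial σ' hσ' s' hs' := by subst e1; subst e2; rfl

theorem symm_mem_oct {σ : Equiv.Perm GolayPt} (hσ : ∀ p, σ p ∈ oct ↔ p ∈ oct) (p : GolayPt) :
    σ.symm p ∈ oct ↔ p ∈ oct := by rw [← hσ, Equiv.apply_symm_apply]

theorem monomial_comm_t0 {σ : Equiv.Perm GolayPt} (hσM : σ ∈ M24)
    (hσ : ∀ p, σ p ∈ oct ↔ p ∈ oct) {s : Finset GolayPt} (hs : IsCode s) :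
    monomial σ hσM s hs * t0 = t0 * monomial σ hσM s hs := by
  refine co0_ext fun i => ?_
  apply Subtype.ext
  funext p
  show vec (_ • eightE i) p = vec (_ • eightE i) p
  simp only [mul_smul, vec_monomial, vec_t0, symm_mem_oct hσ]
  split_ifs <;> ring

/-- The data of a kernel element. -/
def KerData (σ : Equiv.Perm GolayPt) (s : Finset GolayPt) : Prop :=
  σ ∈ octadFix oct ∧ Off s

theorem KerData.mem {σ : Equiv.Perm GolayPt} {s : Finset GolayPt} (h : KerData σ s) : σ ∈ M24 :=
  (mem_octadFix.1 h.1).1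

theorem KerData.stab {σ : Equiv.Perm GolayPt} {s : Finset GolayPt} (h : KerData σ s)
    (p : GolayPt) : σ p ∈ oct ↔ p ∈ oct :=
  OctadStab.smul_eq_iff.1 (MulAction.mem_stabilizer_iff.1 (OctadStab.fix_le h.1).2) p

/-- The lattice automorphism of kernel data. -/
noncomputable def kerElt0 {σ : Equiv.Perm GolayPt} {s : Finset GolayPt} (h : KerData σ s) : Co0 :=
  monomial σ h.mem s h.2.1

theorem kerElt0_fix {σ : Equiv.Perm GolayPt} {s : Finset GolayPt} (h : KerData σ s)
    {v : leechLattice} (hv : OnOct v) : kerElt0 h • v = v := by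
  apply Subtype.ext
  funext p
  show vec (kerElt0 h • v) p = vec v p
  rw [kerElt0, vec_monomial]
  by_cases hp : p ∈ oct
  · have hsymm : σ.symm p = p := by
      rw [Equiv.symm_apply_eq, (mem_octadFix.1 h.1).2 p hp]
    rw [if_neg (fun hs => h.2.2 p hs hp), hsymm]
  · rw [hv p hp, hv _ (fun h' => hp ((symm_mem_oct h.stab p).1 h'))]
    simp

/-- The kernel element of kernel data. -/
noncomputable def kerElt {σ : Equiv.Perm GolayPt} {s : Finset GolayPt} (h : KerData σ s) : C :=
  mkC (kerElt0 h) (kerElt0_fix h onOct_uu) (monomial_comm_t0 h.mem h.stab h.2.1)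

theorem rho_kerElt {σ : Equiv.Perm GolayPt} {s : Finset GolayPt} (h : KerData σ s) :
    rho (kerElt h) = 1 := by
  apply isom_ext
  intro c
  rw [rho_smul, one_smul, act]
  show phi (kerElt0 h • lift c) = c
  rw [kerElt0_fix h (inW_lift c).1, phi_lift]

theorem no_short {x y : leechLattice} (hne : x ≠ y) (hne' : x ≠ -y)
    (hc : ∃ z : leechLattice, x - y = z + z) :
    128 ≤ sqNorm (vec x) + sqNorm (vec y) := by
  obtain ⟨z, hz⟩ := hc
  have h2 : x + y = (z + y) + (z + y) := by rw [sub_eq_iff_eq_add] at hz; rw [hz]; abel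
  have hq : ∀ w : leechLattice, w + w ≠ 0 → 128 ≤ sqNorm (vec (w + w)) := fun w hw => by
    have h0 : (vec w) ≠ 0 := fun e => hw (by
      have : w = 0 := Subtype.ext e
      rw [this, add_zero])
    have hm := LeechMod2.min_norm w.2 h0
    simp only [vec, AddSubgroup.coe_add, sqNorm_add] at hm ⊢
    have : dotInt (w : GolayPt → ℤ) (w : GolayPt → ℤ) = sqNorm (w : GolayPt → ℤ) := by
      simp only [dotInt, sqNorm, sq]
    omega
  have a1 := hq z (by rw [← hz]; exact sub_ne_zero.2 hne)
  have a2 := hq (z + y) (by rw [← h2, ne_eq, add_eq_zero_iff_eq_neg]; exact hne')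
  rw [← hz] at a1
  rw [← h2] at a2
  simp only [vec, AddSubgroup.coe_add, AddSubgroup.coe_sub, sqNorm_add, sqNorm_sub] at a1 a2 ⊢
  omega

theorem root_pm (g : C) (hg : rho g = 1) {r : leechLattice} (hr : InW r)
    (hn : sqNorm (vec r) = 32) : toCo0 g • r = r ∨ toCo0 g • r = -r := by
  have hphi : phi (toCo0 g • r) = phi r := by
    rw [← act_phi g hr, ← rho_smul, hg, one_smul]
  obtain ⟨z, -, e⟩ := phi_eq_zero (inW_sub (inW_act g hr) hr)
    (by rw [phi_sub (inW_act g hr) hr, hphi, sub_self])
  have hn' : sqNorm (vec (toCo0 g • r)) = 32 := by rw [norm_smul', hn]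
  by_contra hcon
  rw [not_or] at hcon
  rcases e with e | e
  · have := no_short hcon.1 hcon.2 ⟨z, e⟩
    omega
  · have hny : sqNorm (vec (r + uu)) = 64 := by
      have hd : dotInt (vec r) (vec uu) = 0 := by
        have h0 := dot_uu r
        rw [hr.2] at h0
        simp only [dotInt, mul_comm] at h0 ⊢
        omega
      have hu : sqNorm (vec uu) = 32 := by decide +kernel
      simp only [vec, AddSubgroup.coe_add, sqNorm_add] at hn hu hd ⊢
      omega
    have := no_short (x := toCo0 g • r) (y := r + uu)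
      (fun h => by rw [h, hny] at hn'; omega)
      (fun h => by
        rw [h] at hn'
        simp only [vec, AddSubgroup.coe_neg, sqNorm_neg] at hn' hny
        omega)
      ⟨z, by rw [sub_add_eq_sub_sub, e]; abel⟩
    omega

/-- The sum and difference roots on two of the last six points. -/
def rootData (i j : Fin 8) (e : ℤ) : Fin 8 → ℤ :=
  fun k => if k = i then 4 else if k = j then 4 * e else 0

theorem root_test : ∀ i j : Fin 8, 2 ≤ i → 2 ≤ j → i ≠ j → ∀ e : Fin 2,
    ((∀ k, rootData i j (1 - 2 * (e : ℕ)) k % 2 = 0) ∧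
      (∀ k, rootData i j (1 - 2 * (e : ℕ)) k % 4 = rootData i j (1 - 2 * (e : ℕ)) 0 % 4) ∧
      (∑ k, rootData i j (1 - 2 * (e : ℕ)) k) % 8 = 0) ∧
    rootData i j (1 - 2 * (e : ℕ)) 0 + rootData i j (1 - 2 * (e : ℕ)) 1 = 0 ∧
    (∑ k, rootData i j (1 - 2 * (e : ℕ)) k ^ 2) = 32 := by decide +kernel

theorem sqNorm_ofCoord (x : Fin 8 → ℤ) (h : Cong x) :
    sqNorm (vec (ofCoord x h)) = ∑ i, x i ^ 2 := by
  rw [sqNorm, sum_oct _ (fun p hp => by rw [onOct_ofCoord x h p hp]; rfl)]
  exact Finset.sum_congr rfl fun i _ => by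
    show emb x (pts i) ^ 2 = _
    rw [emb_pts]

theorem axis_step (g : C) (hg : rho g = 1) {i j : Fin 8} (hi : 2 ≤ i) (hj : 2 ≤ j) (hij : i ≠ j) :
    toCo0 g • eightE (pts i) = eightE (pts i) ∨ toCo0 g • eightE (pts i) = -eightE (pts i) ∨
    toCo0 g • eightE (pts i) = eightE (pts j) ∨ toCo0 g • eightE (pts i) = -eightE (pts j) := by
  have t0' := root_test i j hi hj hij 0
  have t1' := root_test i j hi hj hij 1
  set x := rootData i j (1 - 2 * ((0 : Fin 2) : ℕ)) with hx
  set y := rootData i j (1 - 2 * ((1 : Fin 2) : ℕ)) with hy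
  let r := ofCoord x ⟨t0'.1.1, t0'.1.2.1, t0'.1.2.2⟩
  let r' := ofCoord y ⟨t1'.1.1, t1'.1.2.1, t1'.1.2.2⟩
  have hr : InW r := ⟨onOct_ofCoord _ _, by
    show emb x (pts 0) + emb x (pts 1) = 0
    rw [emb_pts, emb_pts]; exact t0'.2.1⟩
  have hr' : InW r' := ⟨onOct_ofCoord _ _, by
    show emb y (pts 0) + emb y (pts 1) = 0
    rw [emb_pts, emb_pts]; exact t1'.2.1⟩
  have hsum : eightE (pts i) = r + r' := by
    apply Subtype.ext
    funext p
    show vec (eightE (pts i)) p = emb x p + emb y p
    rw [eightE_apply]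
    by_cases hp : p ∈ oct
    · obtain ⟨k, rfl⟩ := (mem_oct_iff p).1 hp
      simp only [emb_pts, hx, hy, rootData, pts_inj.eq_iff]
      split_ifs <;> simp
    · rw [emb_off _ hp, emb_off _ hp, if_neg (fun h : p = pts i => hp (h ▸ pts_mem i))]; rfl
  have hdiff : eightE (pts j) = r - r' := by
    apply Subtype.ext
    funext p
    show vec (eightE (pts j)) p = emb x p - emb y p
    rw [eightE_apply]
    by_cases hp : p ∈ oct
    · obtain ⟨k, rfl⟩ := (mem_oct_iff p).1 hp
      simp only [emb_pts, hx, hy, rootData, pts_inj.eq_iff]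
      split_ifs with h1 h2 h3 <;> omega
    · rw [emb_off _ hp, emb_off _ hp, if_neg (fun h : p = pts j => hp (h ▸ pts_mem j))]; rfl
  rw [hsum, smul_add']
  rcases root_pm g hg hr (by rw [sqNorm_ofCoord]; exact t0'.2.2) with h1 | h1 <;>
    rcases root_pm g hg hr' (by rw [sqNorm_ofCoord]; exact t1'.2.2) with h2 | h2 <;>
    rw [h1, h2]
  · exact Or.inl rfl
  · rw [hdiff]; exact Or.inr (Or.inr (Or.inl (sub_eq_add_neg r r').symm))
  · rw [hdiff]; exact Or.inr (Or.inr (Or.inr (by abel)))
  · exact Or.inr (Or.inl (by abel))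

/-- Every element of the kernel is monomial, fixes the octad pointwise and changes no sign on it. -/
theorem ker_data (g : C) (hg : rho g = 1) :
    ∃ (σ : Equiv.Perm GolayPt) (s : Finset GolayPt) (h : KerData σ s),
      toCo0 g = kerElt0 h := by
  have hax : Axis (toCo0 g) := by
    rcases axis_step g hg (i := 2) (j := 3) le_rfl (by decide) (by decide) with h | h | h | h
    · exact axis_of_one (Or.inl h)
    · exact axis_of_one (Or.inr h)
    · exact axis_of_one (Or.inl h)
    · exact axis_of_one (Or.inr h)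
  obtain ⟨σ, hσ, s, hs, e⟩ := exists_monomial hax
  have himg : ∀ i : Fin 8, 2 ≤ i → ∀ j : Fin 8, 2 ≤ j → i ≠ j →
      σ (pts i) = pts i ∨ σ (pts i) = pts j := by
    intro i hi j hj hij
    have h := axis_step g hg hi hj hij
    rw [e, monomial_apply_eightE] at h
    split_ifs at h <;> rcases h with h | h | h | h <;>
      first
        | exact Or.inl (eightE_inj (Or.inl h))
        | exact Or.inl (eightE_inj (Or.inr h))
        | exact Or.inl (eightE_inj (Or.inl (neg_injective h)))
        | exact Or.inl (eightE_inj (Or.inr (neg_eq_iff_eq_neg.1 h)))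
        | exact Or.inr (eightE_inj (Or.inl h))
        | exact Or.inr (eightE_inj (Or.inr h))
        | exact Or.inr (eightE_inj (Or.inl (neg_injective h)))
        | exact Or.inr (eightE_inj (Or.inr (neg_eq_iff_eq_neg.1 h)))
  have hfix6 : ∀ i : Fin 8, 2 ≤ i → σ (pts i) = pts i := by
    intro i hi
    obtain ⟨j, k, hj, hk, hij, hik, hjk⟩ : ∃ j k : Fin 8, 2 ≤ j ∧ 2 ≤ k ∧ i ≠ j ∧ i ≠ k ∧ j ≠ k := by
      revert i; decide +kernel
    rcases himg i hi j hj hij with h | h
    · exact h
    rcases himg i hi k hk hik with h' | h'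
    · exact h'
    · exact absurd (pts_inj (h.symm.trans h')) hjk
  have hu : monomial σ hσ s hs • uu = uu := e ▸ fix_uu g
  have hab : ∀ i : Fin 8, i < 2 → (σ.symm (pts i) = pts 0 ∨ σ.symm (pts i) = pts 1) ∧ pts i ∉ s := by
    intro i hi
    have hv := congrFun (congrArg vec hu) (pts i)
    rw [vec_monomial] at hv
    have hui : vec uu (pts i) = 4 := by
      have key : ∀ k : Fin 8, k < 2 → vec uu (pts k) = 4 := by decide +kernel
      exact key i hi
    rw [hui] at hv
    have hval : ∀ q : GolayPt, vec uu q = 0 ∨ (vec uu q = 4 ∧ (q = pts 0 ∨ q = pts 1)) := by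
      intro q; revert q; decide +kernel
    rcases hval (σ.symm (pts i)) with h0 | ⟨h4, hq⟩
    · rw [h0] at hv; split_ifs at hv <;> omega
    · refine ⟨hq, fun hm => ?_⟩
      rw [if_pos hm, h4] at hv
      omega
  have hstab : ∀ p, σ p ∈ oct ↔ p ∈ oct := by
    have hmaps : ∀ q ∈ oct, σ.symm q ∈ oct := by
      intro q hq
      obtain ⟨i, rfl⟩ := (mem_oct_iff q).1 hq
      by_cases hi : i < 2
      · rcases (hab i hi).1 with h | h <;> rw [h] <;> exact pts_mem _
      · have h := hfix6 i (not_lt.1 hi)
        rw [(Equiv.symm_apply_eq σ).2 h.symm]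
        exact pts_mem i
    have himage : oct.map σ.symm.toEmbedding = oct :=
      Finset.eq_of_subset_of_card_le (fun q hq => by
        obtain ⟨q', hq', rfl⟩ := Finset.mem_map.1 hq
        exact hmaps q' hq') (by rw [Finset.card_map])
    intro p
    conv_rhs => rw [← himage]
    rw [Finset.mem_map_equiv, Equiv.symm_symm]
  have hfix : ∀ p ∈ oct, σ p = p := by
    let so : OctadStab.octadStab oct :=
      ⟨σ, hσ, MulAction.mem_stabilizer_iff.2 (OctadStab.smul_eq_iff.2 hstab)⟩
    have heven : OctadStab.restrict oct so ∈ alternatingGroup ↥oct := by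
      rw [← OctadStab.range_eq baseOctad_mem]
      exact ⟨so, rfl⟩
    by_cases h0 : σ (pts 0) = pts 0
    · have h1 : σ (pts 1) = pts 1 := by
        rcases (hab 1 (by decide)).1 with h | h
        · have := (Equiv.symm_apply_eq σ).1 h
          exact absurd (pts_inj (this.trans h0)) (by decide)
        · exact ((Equiv.symm_apply_eq σ).1 h).symm
      intro p hp
      obtain ⟨i, rfl⟩ := (mem_oct_iff p).1 hp
      by_cases hi : i < 2
      · rcases (show i = 0 ∨ i = 1 by revert i; decide) with rfl | rfl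
        · exact h0
        · exact h1
      · exact hfix6 i (not_lt.1 hi)
    · exfalso
      have h01 : σ (pts 0) = pts 1 := by
        rcases (hab 1 (by decide)).1 with h | h
        · exact ((Equiv.symm_apply_eq σ).1 h).symm
        · rcases (hab 0 (by decide)).1 with h' | h'
          · exact absurd ((Equiv.symm_apply_eq σ).1 h').symm h0
          · exact absurd (σ.symm.injective (h.trans h'.symm)) (fun hh => absurd (pts_inj hh) (by decide))
      have h10 : σ (pts 1) = pts 0 := by
        rcases (hab 0 (by decide)).1 with h | h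
        · exact absurd ((Equiv.symm_apply_eq σ).1 h).symm h0
        · exact ((Equiv.symm_apply_eq σ).1 h).symm
      have hswap : OctadStab.restrict oct so =
          Equiv.swap (⟨pts 0, pts_mem 0⟩ : ↥oct) ⟨pts 1, pts_mem 1⟩ := by
        refine Equiv.ext fun ⟨p, hp⟩ => Subtype.ext ?_
        rw [OctadStab.restrict_apply]
        obtain ⟨i, rfl⟩ := (mem_oct_iff p).1 hp
        show σ (pts i) = _
        by_cases hi : i < 2
        · rcases (show i = 0 ∨ i = 1 by revert i; decide) with rfl | rfl
          · rw [Equiv.swap_apply_left, h01]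
          · rw [Equiv.swap_apply_right, h10]
        · rw [Equiv.swap_apply_of_ne_of_ne, hfix6 i (not_lt.1 hi)]
          · intro hh; have := pts_inj (a₁ := i) (a₂ := 0) (congrArg Subtype.val hh); omega
          · intro hh; have := pts_inj (a₁ := i) (a₂ := 1) (congrArg Subtype.val hh); omega
      rw [hswap, Equiv.Perm.mem_alternatingGroup, Equiv.Perm.sign_swap] at heven
      · exact absurd heven (by decide)
      · exact fun hh => absurd (pts_inj (a₁ := 0) (a₂ := 1) (congrArg Subtype.val hh)) (by decide)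
  have hoff : ∀ p ∈ s, p ∉ oct := by
    intro p hp hpo
    obtain ⟨i, rfl⟩ := (mem_oct_iff p).1 hpo
    by_cases hi : i < 2
    · exact (hab i hi).2 hp
    set h6 : leechLattice := lift (Pi.single (Sum.inr 2) 1) with hh6
    have hc : ∀ k, coord h6 k = ![2, -2, -2, -2, -2, 2, 2, 2] k := fun k => by
      rw [hh6, lift, coord_ofCoord]; revert k; decide +kernel
    have hn : sqNorm (vec h6) = 32 := by
      rw [hh6, lift, sqNorm_ofCoord]; decide +kernel
    rcases root_pm g hg (inW_lift _) hn with h | h
    · have hv := congrFun (congrArg vec h) (pts i)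
      rw [e, vec_monomial, if_pos hp, (Equiv.symm_apply_eq σ).2 (hfix _ (pts_mem i)).symm] at hv
      have key : ∀ k : Fin 8, ![(2 : ℤ), -2, -2, -2, -2, 2, 2, 2] k ≠ 0 := by decide +kernel
      have hne : coord h6 i ≠ 0 := by rw [hc]; exact key i
      rw [← hh6] at hv
      simp only [coord, vec] at hne hv
      omega
    · have hv := congrFun (congrArg vec h) (pts 0)
      rw [e, vec_monomial, if_neg (hab 0 (by decide)).2,
        (Equiv.symm_apply_eq σ).2 (hfix _ (pts_mem 0)).symm] at hv
      have h2 : coord h6 0 = 2 := hc 0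
      rw [← hh6] at hv
      simp only [coord, vec, AddSubgroup.coe_neg, Pi.neg_apply] at hv h2
      omega
  exact ⟨σ, s, ⟨mem_octadFix.2 ⟨hσ, hfix⟩, hs, hoff⟩, e⟩

end Cfsg.Agent.Lib.Co2Cent
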