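import Cfsg.Agent.Lib.Co2Cent.Surj
import Cfsg.Agent.Lib.Cores.Basic
import Cfsg.Agent.Lib.PGroups.Frattini
import Cfsg.Agent.Lib.SquareMaps.Basic

/-!
The kernel is extraspecial of order 512 and is the 2-core; the quotient is the symplectic group.
-/

set_option autoImplicit false

namespace Cfsg.Agent.Lib.Co2Cent

open Cfsg Cfsg.Agent.Lib.Leech Cfsg.Agent.Lib.Symplectic Cfsg.Agent.Lib.Golay
open Cfsg.Agent.Lib.SporStruct
open scoped Pointwise symmDiff commutatorElement

theorem kerData_mk {σ : Equiv.Perm GolayPt} {s : Finset GolayPt} (h1 : σ ∈ octadFix oct)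
    (h2 : Off s) : KerData σ s := ⟨h1, h2⟩

theorem off_smul {σ : Equiv.Perm GolayPt} (hσ : σ ∈ octadFix oct) {s : Finset GolayPt}
    (hs : Off s) : Off (σ • s) := by
  rcases smul_off hσ hs with h | h <;> rw [h]
  · exact hs
  · refine ⟨hs.1.symmDiff off_compl.1, fun p hp => ?_⟩
    rcases Finset.mem_symmDiff.1 hp with h' | h'
    · exact hs.2 p h'.1
    · exact off_compl.2 p h'.1

theorem off_empty : Off ∅ := ⟨isCode_empty, fun _ h => absurd h (Finset.notMem_empty _)⟩

theorem off_symmDiff {s t : Finset GolayPt} (hs : Off s) (ht : Off t) : Off (s ∆ t) :=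
  ⟨hs.1.symmDiff ht.1, fun p hp => by
    rcases Finset.mem_symmDiff.1 hp with h | h
    · exact hs.2 p h.1
    · exact ht.2 p h.1⟩

theorem kerData_mul {σ τ : Equiv.Perm GolayPt} {s t : Finset GolayPt} (h : KerData σ s)
    (k : KerData τ t) : KerData (σ * τ) (s ∆ (σ • t)) :=
  ⟨mul_mem h.1 k.1, off_symmDiff h.2 (off_smul h.1 k.2)⟩

theorem kerElt0_apply {σ : Equiv.Perm GolayPt} {s : Finset GolayPt} (h : KerData σ s)
    (i : GolayPt) :
    kerElt0 h • eightE i = if σ i ∈ s then -eightE (σ i) else eightE (σ i) :=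
  monomial_apply_eightE _ _ i

theorem kerElt_mul {σ τ : Equiv.Perm GolayPt} {s t : Finset GolayPt} (h : KerData σ s)
    (k : KerData τ t) : kerElt h * kerElt k = kerElt (kerData_mul h k) := by
  apply toCo0_injective
  rw [map_mul]
  show kerElt0 h * kerElt0 k = kerElt0 (kerData_mul h k)
  refine co0_ext fun i => ?_
  rw [mul_smul, kerElt0_apply, kerElt0_apply]
  have hm : σ (τ i) ∈ σ • t ↔ τ i ∈ t := by
    rw [← Equiv.Perm.smul_def]; exact Finset.smul_mem_smul_finset_iff σ
  simp only [Equiv.Perm.mul_apply, Finset.mem_symmDiff, hm]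
  by_cases h1 : τ i ∈ t <;> by_cases h2 : σ (τ i) ∈ s <;>
    simp [h1, h2, kerElt0_apply, smul_neg']

theorem kerElt_congr {σ τ : Equiv.Perm GolayPt} {s t : Finset GolayPt} (h : KerData σ s)
    (k : KerData τ t) (e1 : σ = τ) (e2 : s = t) : kerElt h = kerElt k := by subst e1; subst e2; rfl

theorem eightE_ne_neg (i k : GolayPt) : eightE i ≠ -eightE k := fun h => by
  have e := eightE_inj (Or.inr h)
  subst e
  have := congrFun (congrArg vec h) i
  simp [eightE, vec] at this

theorem kerElt_inj {σ τ : Equiv.Perm GolayPt} {s t : Finset GolayPt} (h : KerData σ s)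
    (k : KerData τ t) (e : kerElt h = kerElt k) : σ = τ ∧ s = t := by
  have e0 : kerElt0 h = kerElt0 k := congrArg toCo0 e
  have hp : ∀ i, σ i = τ i ∧ (σ i ∈ s ↔ τ i ∈ t) := fun i => by
    have e1 := congrArg (fun g : Co0 => g • eightE i) e0
    simp only [kerElt0_apply] at e1
    split_ifs at e1 with h1 h2 h3
    · exact ⟨eightE_inj (Or.inl (neg_injective e1)), by simp [h1, h2]⟩
    · exact absurd e1.symm (eightE_ne_neg _ _)
    · exact absurd e1 (eightE_ne_neg _ _)
    · exact ⟨eightE_inj (Or.inl e1), by simp [h1, h3]⟩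
  have hστ : σ = τ := Equiv.ext fun i => (hp i).1
  refine ⟨hστ, Finset.ext fun p => ?_⟩
  have := (hp (σ.symm p)).2
  rwa [← (hp (σ.symm p)).1, Equiv.apply_symm_apply] at this

/-- The parametrisation of the kernel. -/
noncomputable def kerMap (p : octadFix oct × {s : Finset GolayPt // Off s}) : rho.ker :=
  ⟨kerElt (kerData_mk p.1.2 p.2.2), MonoidHom.mem_ker.2 (rho_kerElt _)⟩

theorem kerMap_bijective : Function.Bijective kerMap := by
  refine ⟨fun a b e => ?_, fun g => ?_⟩
  · obtain ⟨h1, h2⟩ := kerElt_inj _ _ (congrArg Subtype.val e)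
    exact Prod.ext (Subtype.ext h1) (Subtype.ext h2)
  · obtain ⟨σ, s, h, e⟩ := ker_data g.1 (MonoidHom.mem_ker.1 g.2)
    exact ⟨(⟨σ, h.1⟩, ⟨s, h.2⟩), Subtype.ext (toCo0_injective (e.symm))⟩

theorem card_ker : Nat.card rho.ker = 2 ^ 9 := by
  rw [← Nat.card_eq_of_bijective _ kerMap_bijective, Nat.card_prod,
    (octadFix_spec baseOctad_mem).1, card_off]
  norm_num

theorem ker_isPGroup : IsPGroup 2 rho.ker := IsPGroup.of_card card_ker

/-- The central involution of the kernel. -/
noncomputable def zz : rho.ker := kerMap (1, ⟨octᶜ, off_compl⟩)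

theorem smul_compl {σ : Equiv.Perm GolayPt} (hσ : σ ∈ octadFix oct) : σ • octᶜ = octᶜ := by
  have hs := OctadStab.smul_eq_iff.1 (MulAction.mem_stabilizer_iff.1 (OctadStab.fix_le hσ).2)
  rw [OctadStab.smul_eq_iff]
  intro x
  simp only [Finset.mem_compl]
  exact not_congr (hs x)

theorem kerMap_mul (a b : octadFix oct × {s : Finset GolayPt // Off s}) :
    kerMap a * kerMap b = kerMap (a.1 * b.1,
      ⟨a.2.1 ∆ ((a.1 : Equiv.Perm GolayPt) • b.2.1),
        off_symmDiff a.2.2 (off_smul a.1.2 b.2.2)⟩) := by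
  apply Subtype.ext
  show kerElt _ * kerElt _ = kerElt _
  rw [kerElt_mul]

theorem one_eq : (1 : rho.ker) = kerMap (1, ⟨∅, off_empty⟩) := by
  have h := kerMap_mul (1, ⟨∅, off_empty⟩) (1, ⟨∅, off_empty⟩)
  have e : ((1 : octadFix oct) * 1, (⟨(∅ : Finset GolayPt) ∆ (((1 : octadFix oct) :
      Equiv.Perm GolayPt) • (∅ : Finset GolayPt)), off_symmDiff off_empty
        (off_smul (1 : octadFix oct).2 off_empty)⟩ : {s : Finset GolayPt // Off s}))
      = ((1 : octadFix oct), ⟨∅, off_empty⟩) :=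
    Prod.ext (one_mul _) (Subtype.ext (by simp))
  rw [e] at h
  exact (mul_eq_left.1 h).symm

theorem octadFix_comm (σ τ : octadFix oct) : σ * τ = τ * σ := by
  have hsq : ∀ x : octadFix oct, x * x = 1 := fun x =>
    Subtype.ext ((octadFix_spec baseOctad_mem).2 x.1 x.2)
  have hinv : ∀ x : octadFix oct, x⁻¹ = x := fun x => inv_eq_of_mul_eq_one_right (hsq x)
  rw [← hinv (σ * τ), mul_inv_rev, hinv, hinv]

theorem zz_central (g : rho.ker) : g * zz = zz * g := by
  obtain ⟨⟨σ, s, hs⟩, rfl⟩ := kerMap_bijective.2 g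
  rw [zz, kerMap_mul, kerMap_mul]
  refine congrArg kerMap (Prod.ext ?_ (Subtype.ext ?_))
  · exact (mul_one σ).trans (one_mul σ).symm
  · show s ∆ ((σ : Equiv.Perm GolayPt) • octᶜ) = octᶜ ∆ ((1 : Equiv.Perm GolayPt) • s)
    rw [smul_compl σ.2, one_smul, symmDiff_comm]

theorem center_ker : ∀ g : rho.ker, g ∈ Subgroup.center rho.ker ↔ g = 1 ∨ g = zz := by
  intro g
  constructor
  · intro hg
    obtain ⟨⟨σ, s, hs⟩, rfl⟩ := kerMap_bijective.2 g
    rw [Subgroup.mem_center_iff] at hg
    have hσ : σ = 1 := by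
      by_contra hne
      obtain ⟨t, ht, hmove⟩ := exists_moved σ.2 (fun h => hne (Subtype.ext h))
      have e := hg (kerMap (1, ⟨t, ht⟩))
      rw [kerMap_mul, kerMap_mul] at e
      have e2 := congrArg (fun p => (p : octadFix oct × {s : Finset GolayPt // Off s}).2.1)
        (kerMap_bijective.1 e)
      simp only [OneMemClass.coe_one, one_smul] at e2
      rw [symmDiff_comm] at e2
      exact hmove (symmDiff_right_injective s e2).symm
    subst hσ
    have hfix : ∀ τ : octadFix oct, (τ : Equiv.Perm GolayPt) • s = s := fun τ => by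
      have e := hg (kerMap (τ, ⟨∅, off_empty⟩))
      rw [kerMap_mul, kerMap_mul] at e
      have e2 := congrArg (fun p => (p : octadFix oct × {s : Finset GolayPt // Off s}).2.1)
        (kerMap_bijective.1 e)
      simp at e2
      rw [show (∅ : Finset GolayPt) = ⊥ from rfl, bot_symmDiff, symmDiff_bot] at e2
      exact e2
    rcases s.eq_empty_or_nonempty with rfl | ⟨x, hx⟩
    · left; rw [one_eq]
    · right
      have hs' : s = octᶜ := by
        ext z
        refine ⟨fun h => Finset.mem_compl.2 (hs.2 z h), fun hz => ?_⟩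
        obtain ⟨τ, hτ, hτx⟩ :=
          OctadStab.exists_fix_move baseOctad_mem (hs.2 x hx) (Finset.mem_compl.1 hz)
        rw [← hfix ⟨τ, hτ⟩, ← hτx]
        exact Finset.smul_mem_smul_finset hx
      subst hs'
      rfl
  · rintro (rfl | rfl)
    · exact one_mem _
    · exact Subgroup.mem_center_iff.2 zz_central

theorem zz_ne_one : zz ≠ 1 := by
  rw [one_eq, zz]
  intro h
  have e := congrArg (fun p => (p : octadFix oct × {s : Finset GolayPt // Off s}).2.1)
    (kerMap_bijective.1 h)
  simp only at e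
  have hm : basePt7 ∈ octᶜ := Finset.mem_compl.2 basePt7_notMem
  rw [e] at hm
  exact absurd hm (Finset.notMem_empty _)

theorem finite_C : Finite C := Finite.of_injective _ toCo0_injective

theorem finite_ker : Finite rho.ker := Nat.finite_of_card_ne_zero (by rw [card_ker]; norm_num)

theorem card_center_ker : Nat.card (Subgroup.center rho.ker) = 2 := by
  have h : (Subgroup.center rho.ker : Set rho.ker) = {1, zz} := by
    ext g
    simpa using center_ker g
  rw [← SetLike.coe_sort_coe, h, Nat.card_coe_set_eq, Set.ncard_pair (Ne.symm zz_ne_one)]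

theorem mul_comm_or (g k : rho.ker) : g * k = k * g ∨ g * k = zz * (k * g) := by
  obtain ⟨⟨σ, s, hs⟩, rfl⟩ := kerMap_bijective.2 g
  obtain ⟨⟨τ, t, ht⟩, rfl⟩ := kerMap_bijective.2 k
  rw [zz, kerMap_mul, kerMap_mul, kerMap_mul]
  simp only [OneMemClass.coe_one, one_smul]
  have key : s ∆ ((σ : Equiv.Perm GolayPt) • t) = t ∆ ((τ : Equiv.Perm GolayPt) • s) ∨
      s ∆ ((σ : Equiv.Perm GolayPt) • t) = octᶜ ∆ (t ∆ ((τ : Equiv.Perm GolayPt) • s)) := by
    rcases smul_off σ.2 ht with h1 | h1 <;> rcases smul_off τ.2 hs with h2 | h2 <;> rw [h1, h2]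
    · exact Or.inl (symmDiff_comm _ _)
    · right; ext p; simp [Finset.mem_symmDiff]; tauto
    · right; ext p; simp [Finset.mem_symmDiff]; tauto
    · left; ext p; simp [Finset.mem_symmDiff]; tauto
  rcases key with h | h
  · exact Or.inl (congrArg kerMap (Prod.ext (octadFix_comm σ τ) (Subtype.ext h)))
  · refine Or.inr (congrArg kerMap (Prod.ext ?_ (Subtype.ext h)))
    show σ * τ = 1 * (τ * σ)
    rw [one_mul, octadFix_comm]

theorem commutator_ker_le : commutator rho.ker ≤ Subgroup.center rho.ker := by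
  rw [commutator_def, Subgroup.commutator_le]
  intro g _ k _
  rw [center_ker]
  rcases mul_comm_or g k with h | h
  · exact Or.inl (commutatorElement_eq_one_iff_mul_comm.2 h)
  · right
    rw [commutatorElement_def, h]
    group

theorem sq_mem (g : rho.ker) : g ^ 2 ∈ Subgroup.center rho.ker := by
  obtain ⟨⟨σ, s, hs⟩, rfl⟩ := kerMap_bijective.2 g
  rw [pow_two, kerMap_mul, center_ker, one_eq, zz]
  have hσ : σ * σ = 1 := Subtype.ext ((octadFix_spec baseOctad_mem).2 σ.1 σ.2)
  rcases smul_off σ.2 hs with h | h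
  · exact Or.inl (congrArg kerMap (Prod.ext hσ (Subtype.ext (by
      show s ∆ _ = ∅
      rw [h, symmDiff_self]; rfl))))
  · exact Or.inr (congrArg kerMap (Prod.ext hσ (Subtype.ext (by
      show s ∆ _ = octᶜ
      rw [h, symmDiff_symmDiff_cancel_left]))))

theorem commutator_ker : commutator rho.ker = Subgroup.center rho.ker := by
  refine le_antisymm commutator_ker_le ?_
  obtain ⟨t, ht, hmove⟩ : ∃ t : {s : Finset GolayPt // Off s}, ∃ σ : octadFix oct,
      (σ : Equiv.Perm GolayPt) • t.1 ≠ t.1 := by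
    obtain ⟨σ, hσ, hσx⟩ := OctadStab.exists_fix_move baseOctad_mem
      basePt7_notMem (show (some 6 : GolayPt) ∉ baseOctad by decide +kernel)
    have hne : σ ≠ 1 := fun h => by
      rw [h, Equiv.Perm.one_apply] at hσx
      revert hσx
      decide +kernel
    obtain ⟨t, ht, hm⟩ := exists_moved hσ hne
    exact ⟨⟨t, ht⟩, ⟨σ, hσ⟩, hm⟩
  set a := kerMap (ht, ⟨∅, off_empty⟩) with ha
  set b := kerMap (1, t) with hb
  have hne : a * b ≠ b * a := by
    rw [ha, hb, kerMap_mul, kerMap_mul]
    intro e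
    have e2 := congrArg (fun p => (p : octadFix oct × {s : Finset GolayPt // Off s}).2.1)
      (kerMap_bijective.1 e)
    simp only [OneMemClass.coe_one, one_smul] at e2
    apply hmove
    try simp at e2
    rw [show (∅ : Finset GolayPt) = ⊥ from rfl, bot_symmDiff, symmDiff_bot] at e2
    exact e2
  have hz : ⁅a, b⁆ = zz := by
    rcases (center_ker _).1 (commutator_ker_le
      (Subgroup.commutator_mem_commutator (Subgroup.mem_top a) (Subgroup.mem_top b))) with h | h
    · exact absurd (commutatorElement_eq_one_iff_mul_comm.1 h) hne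
    · exact h
  intro g hg
  rcases (center_ker g).1 hg with rfl | rfl
  · exact one_mem _
  · rw [← hz]
    exact Subgroup.commutator_mem_commutator (Subgroup.mem_top a) (Subgroup.mem_top b)

theorem ker_extraspecial : IsExtraspecial 2 rho.ker :=
  haveI := finite_ker
  ⟨⟨ker_isPGroup,
    le_antisymm (SquareMaps.frattini_le _ sq_mem)
      (commutator_ker ▸ PGroups.commutator_le_frattini ker_isPGroup),
    commutator_ker⟩, card_center_ker⟩

theorem isSimple_isom : IsSimpleGroup (Isom (stdForm 3 (ZMod 2))) := by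
  haveI : IsSimpleGroup (PSp 3 (ZMod 2)) :=
    isSimpleGroup_psp (by norm_num) (Or.inl le_rfl)
  have hc : Subgroup.center (Matrix.symplecticGroup (Fin 3) (ZMod 2)) = ⊥ := by
    rw [← Subgroup.card_eq_one, card_center_sp (q := 2) (by simp) (by norm_num)]
    rfl
  have e : PSp 3 (ZMod 2) ≃* Isom (stdForm 3 (ZMod 2)) :=
    (QuotientGroup.quotientMulEquivOfEq hc).trans
      (QuotientGroup.quotientBot.trans (spEquiv 3 (ZMod 2)))
  exact e.symm.isSimpleGroup

theorem not_isPGroup_isom : ¬ IsPGroup 2 (Isom (stdForm 3 (ZMod 2))) := by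
  intro h
  haveI : Finite (Isom (stdForm 3 (ZMod 2))) := Finite.of_equiv _ (spEquiv 3 (ZMod 2)).toEquiv
  obtain ⟨n, hn⟩ := IsPGroup.iff_card.1 h
  have hc : Nat.card (Isom (stdForm 3 (ZMod 2))) = 1451520 := by
    rw [← Nat.card_congr (spEquiv 3 (ZMod 2)).toEquiv, card_sp (q := 2) (by simp)]
    decide +kernel
  rw [hc] at hn
  have : 3 ∣ 2 ^ n := by rw [← hn]; norm_num
  exact absurd (Nat.prime_three.dvd_of_dvd_pow this) (by norm_num)

theorem pCore_eq : pCore 2 C = rho.ker := by
  haveI := isSimple_isom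
  refine le_antisymm ?_ (Cores.le_pCore ker_isPGroup)
  haveI := finite_C
  haveI hn : ((pCore 2 C).map rho).Normal :=
    Subgroup.Normal.map inferInstance _ rho_surjective
  rcases hn.eq_bot_or_eq_top with h | h
  · exact (Subgroup.map_eq_bot_iff _).1 h
  · exfalso
    refine not_isPGroup_isom ?_
    have hp : IsPGroup 2 ((pCore 2 C).map rho) := (Cores.pCore_isPGroup 2).map rho
    rw [h] at hp
    exact hp.of_equiv Subgroup.topEquiv

theorem orderOf_tt : orderOf tt = 2 := by
  refine orderOf_eq_prime ?_ ?_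
  · rw [pow_two]
    apply Subtype.ext
    refine Equiv.ext fun v => Subtype.ext (funext fun p => ?_)
    show vec (t0 • (t0 • v)) p = vec v p
    rw [vec_t0, vec_t0]
    split_ifs <;> simp
  · intro h
    have h0 : t0 = (1 : Co0) :=
      Subtype.ext (congrArg (fun x : ↥Spor.Co2 => (x : Equiv.Perm leechLattice)) h)
    have := congrArg (fun g : Co0 => vec (g • eightE basePt7) basePt7) h0
    simp only [vec_t0, one_smul, if_neg basePt7_notMem, eightE_apply] at this
    norm_num at this

theorem main : orderOf tt = 2 ∧ IsExtraspecial 2 (pCore 2 C) ∧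
    Nat.card (pCore 2 C) = 2 ^ 9 ∧
    Nonempty (C ⧸ pCore 2 C ≃* Matrix.symplecticGroup (Fin 3) (ZMod 2)) := by
  refine ⟨orderOf_tt, ?_, ?_, ⟨?_⟩⟩
  · rw [pCore_eq]; exact ker_extraspecial
  · rw [pCore_eq]; exact card_ker
  · exact (QuotientGroup.quotientMulEquivOfEq pCore_eq).trans
      ((QuotientGroup.quotientKerEquivOfSurjective rho rho_surjective).trans
        (spEquiv 3 (ZMod 2)).symm)

end Cfsg.Agent.Lib.Co2Cent
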