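import Cfsg.Agent.Lib.Co2Cent.Act
import Cfsg.Agent.Lib.Leech.Sextet

/-!
The centraliser acts as the whole symplectic group on the six-dimensional space.
-/

set_option autoImplicit false

namespace Cfsg.Agent.Lib.Co2Cent

open Cfsg Cfsg.Agent.Lib.Leech Cfsg.Agent.Lib.Symplectic Cfsg.Agent.Lib.Golay
open Cfsg.Agent.Lib.SporStruct
open scoped Pointwise

/-- Sign pattern of a code set on the octad. -/
def sgn (s : Finset GolayPt) (i : Fin 8) : ℤ := if pts i ∈ s then -1 else 1

/-- The octad as an indexed type. -/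
noncomputable def octEquiv : Fin 8 ≃ ↥oct :=
  Equiv.ofBijective (fun i => ⟨pts i, pts_mem i⟩)
    ⟨fun _ _ h => pts_inj (congrArg Subtype.val h), fun ⟨p, hp⟩ => by
      obtain ⟨i, rfl⟩ := (mem_oct_iff p).1 hp
      exact ⟨i, rfl⟩⟩

theorem exists_stab {π : Equiv.Perm (Fin 8)} (hπ : Equiv.Perm.sign π = 1) :
    ∃ σ ∈ M24, (∀ p, σ p ∈ oct ↔ p ∈ oct) ∧ ∀ i, σ (pts i) = pts (π i) := by
  have h : octEquiv.permCongr π ∈ (OctadStab.restrict oct).range := by
    rw [OctadStab.range_eq baseOctad_mem, Equiv.Perm.mem_alternatingGroup,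
      Equiv.Perm.sign_permCongr]
    exact hπ
  obtain ⟨so, hso⟩ := h
  refine ⟨so.1, so.2.1, OctadStab.smul_eq_iff.1 (MulAction.mem_stabilizer_iff.1 so.2.2),
    fun i => ?_⟩
  have h' := congrArg Subtype.val (DFunLike.congr_fun hso (octEquiv i))
  rw [OctadStab.restrict_apply, Equiv.permCongr_apply, Equiv.symm_apply_apply] at h'
  exact h'

/-- A monomial element inducing a given signed even permutation on the octad. -/
theorem exists_move {π : Equiv.Perm (Fin 8)} (hπ : Equiv.Perm.sign π = 1) {s : Finset GolayPt}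
    (hs : IsCode s) :
    ∃ g : Co0, g * t0 = t0 * g ∧ ∀ v, OnOct v →
      OnOct (g • v) ∧ coord (g • v) = fun i => sgn s i * coord v (π.symm i) := by
  obtain ⟨σ, hσ, hstab, hpi⟩ := exists_stab hπ
  refine ⟨monomial σ hσ s hs, monomial_comm_t0 hσ hstab hs, fun v hv => ⟨fun p hp => ?_, ?_⟩⟩
  · rw [vec_monomial, hv _ (fun h => hp ((symm_mem_oct hstab p).1 h))]
    simp
  · funext i
    show vec _ (pts i) = _
    rw [vec_monomial, show σ.symm (pts i) = pts (π.symm i) by
      rw [Equiv.symm_apply_eq, hpi, Equiv.apply_symm_apply]]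
    simp only [sgn, coord]
    split_ifs <;> simp

/-- The points fixed in the sign pattern. -/
def sixSet : Finset GolayPt := setOfMask 999806

theorem sixSet_code : IsCode sixSet := isCode_mask (by decide +kernel)

theorem sgn_six : ∀ i : Fin 8, sgn sixSet i = if i < 2 then 1 else -1 := by decide +kernel

/-- The action in coordinates of a signed permutation. -/
def actC (f : (Fin 8 → ℤ) → (Fin 8 → ℤ)) (c : V6) : V6 :=
  fun k => ((pair6 (f (lift8 c)) k : ℤ) : ZMod 2)

theorem act_eq {g : C} {f : (Fin 8 → ℤ) → (Fin 8 → ℤ)}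
    (h : ∀ v, OnOct v → coord (toCo0 g • v) = f (coord v)) (c : V6) : act g c = actC f c := by
  funext k
  show ((pair6 (coord (toCo0 g • lift c)) k : ℤ) : ZMod 2) = _
  rw [h _ (inW_lift c).1, lift, coord_ofCoord]
  rfl

/-- The symplectic product on coordinates. -/
def form3 (x y : V6) : ZMod 2 :=
  ∑ i, (x (Sum.inr i) * y (Sum.inl i) - x (Sum.inl i) * y (Sum.inr i))

theorem form3_eq (x y : V6) : stdForm 3 (ZMod 2) x y = form3 x y := rfl

/-- The permutation of the transvection attached to two of the last six points. -/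
def pm (i j : Fin 8) : Equiv.Perm (Fin 8) := Equiv.swap i j * Equiv.swap 0 1

/-- The six monomial transvection centres, with their permutations. -/
def seeds : List (V6 × Equiv.Perm (Fin 8)) :=
  [(Sum.elim ![1, 0, 0] ![0, 0, 0], pm 2 3), (Sum.elim ![0, 0, 0] ![1, 0, 0], pm 3 4),
   (Sum.elim ![1, 0, 1] ![0, 1, 0], pm 4 5), (Sum.elim ![0, 1, 0] ![0, 0, 0], pm 5 6),
   (Sum.elim ![0, 0, 0] ![0, 1, 0], pm 6 7), (Sum.elim ![0, 0, 1] ![0, 0, 0], 1)]

theorem seeds_test : ∀ p ∈ seeds, Equiv.Perm.sign p.2 = 1 ∧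
    (∀ i, (if i < 2 then (1 : ℤ) else -1) * ![4, 4, 0, 0, 0, 0, 0, 0] (p.2.symm i)
      = ![4, 4, 0, 0, 0, 0, 0, 0] i) ∧
    ∀ c : V6, actC (fun x i => (if i < 2 then (1 : ℤ) else -1) * x (p.2.symm i)) c
      = c + form3 c p.1 • p.1 := by decide +kernel

/-- Centres of transvections in the image. -/
def InT (a : V6) : Prop := transv (isSympForm_stdForm 3 (ZMod 2)) a 1 ∈ rho.range

theorem inT_seed {p : V6 × Equiv.Perm (Fin 8)} (hp : p ∈ seeds) : InT p.1 := by
  obtain ⟨hsign, hu, hact⟩ := seeds_test p hp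
  obtain ⟨g, hcomm, hg⟩ := exists_move hsign sixSet_code
  have hfix : g • uu = uu := by
    refine ext_of_coord (hg _ onOct_uu).1 onOct_uu ?_
    rw [(hg _ onOct_uu).2, coord_uu]
    funext i
    rw [sgn_six]
    exact hu i
  refine ⟨mkC g hfix hcomm, ?_⟩
  apply isom_ext
  intro c
  rw [rho_smul, transv_smul, one_mul, form3_eq,
    act_eq (f := fun x i => (if i < 2 then (1 : ℤ) else -1) * x (p.2.symm i)) ?_ c]
  · exact hact c
  · intro v hv
    rw [toCo0_mkC, (hg v hv).2]
    funext i
    rw [sgn_six]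

/-- The sextet labels. -/
def lab : List (Fin 6) :=
  [1, 1, 1, 2, 0, 2, 3, 3, 5, 4, 4, 5, 5, 0, 2, 4, 0, 2, 5, 3, 4, 3, 0, 1]

/-- The sextet. -/
def sext (p : GolayPt) : Fin 6 := lab.getD (idx p) 0

/-- The masks of the six tetrads. -/
def tetMask : Fin 6 → ℕ := ![4268048, 8388615, 147496, 2621632, 1082880, 268544]

theorem tetUnion_single : ∀ t, tetUnion sext {t} = setOfMask (tetMask t) := by decide +kernel

theorem pair_test : ∀ s t : Fin 6, s ≠ t → inCode (tetMask s ||| tetMask t) = true := by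
  decide +kernel

theorem sext_isSextet : IsSextet sext := by
  refine ⟨fun t => ?_, fun s t hst => ?_⟩
  · rw [tetUnion_single, card_setOfMask]; revert t; decide +kernel
  · have h : tetUnion sext {s, t} = tetUnion sext {s} ∪ tetUnion sext {t} := by
      ext p; simp [mem_tetUnion]
    rw [h, tetUnion_single, tetUnion_single, ← Masks.setOfMask_or]
    exact isCode_mask (pair_test s t hst)

theorem sext_oct : ∀ p, p ∈ oct ↔ (sext p = 1 ∨ sext p = 2) := by decide +kernel

theorem tetSum_t0 (v : leechLattice) (t : Fin 6) :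
    tetSum sext (vec (t0 • v)) t = (if t = 1 ∨ t = 2 then 1 else -1) * tetSum sext (vec v) t := by
  rw [tetSum, tetSum, Finset.mul_sum]
  refine Finset.sum_congr rfl fun p hp => ?_
  have hpt : sext p = t := by simpa [mem_tetUnion] using hp
  rw [vec_t0]
  by_cases h : p ∈ oct
  · rw [if_pos h, if_pos (hpt ▸ (sext_oct p).1 h), one_mul]
  · rw [if_neg h, if_neg (fun h' => h ((sext_oct p).2 (hpt.symm ▸ h'))), neg_one_mul]

theorem sextet_comm : sextetElt sext_isSextet * t0 = t0 * sextetElt sext_isSextet := by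
  refine co0_ext fun i => ?_
  apply Subtype.ext
  funext p
  show vec ((_ * _) • eightE i) p = vec ((_ * _) • eightE i) p
  rw [mul_smul, mul_smul, vec_t0 (sextetElt sext_isSextet • eightE i) p, sextetElt_smul,
    sextetElt_smul]
  simp only [sextetMap, tetSum_t0, vec_t0]
  have hev := tetSum_even sext_isSextet (eightE i).2 (sext p)
  by_cases h : p ∈ oct
  · rw [if_pos h, if_pos h, if_pos ((sext_oct p).1 h), one_mul]
  · rw [if_neg h, if_neg h, if_neg (fun h' => h ((sext_oct p).2 h'))]
    rcases (show tetSign (sext p) = 1 ∨ tetSign (sext p) = -1 by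
      unfold tetSign; split_ifs <;> simp) with e | e <;> rw [e] <;>
    · simp only [neg_one_mul, one_mul]
      simp only [vec] at *
      omega

/-- The sextet map in coordinates. -/
def sx (x : Fin 8 → ℤ) (i : Fin 8) : ℤ :=
  (if i < 4 then (x 0 + x 1 + x 2 + x 3) / 2 else (x 4 + x 5 + x 6 + x 7) / 2) - x i

theorem sext_pts : ∀ i : Fin 8, sext (pts i) = if i < 4 then 1 else 2 := by decide +kernel

theorem tetOne : tetUnion sext {1} = {pts 0, pts 1, pts 2, pts 3} := by decide +kernel

theorem tetTwo : tetUnion sext {2} = {pts 4, pts 5, pts 6, pts 7} := by decide +kernel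

theorem tetSum_oct (x : GolayPt → ℤ) :
    tetSum sext x 1 = x (pts 0) + x (pts 1) + x (pts 2) + x (pts 3) ∧
    tetSum sext x 2 = x (pts 4) + x (pts 5) + x (pts 6) + x (pts 7) := by
  constructor
  · rw [tetSum, tetOne, Finset.sum_insert (by decide +kernel), Finset.sum_insert (by decide +kernel),
      Finset.sum_insert (by decide +kernel), Finset.sum_singleton]
    ring
  · rw [tetSum, tetTwo, Finset.sum_insert (by decide +kernel), Finset.sum_insert (by decide +kernel),
      Finset.sum_insert (by decide +kernel), Finset.sum_singleton]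
    ring

theorem coord_sext (v : leechLattice) :
    coord (sextetElt sext_isSextet • v) = sx (coord v) := by
  funext i
  show vec (sextetElt sext_isSextet • v) (pts i) = _
  rw [sextetElt_smul, sextetMap, sext_pts]
  by_cases h : i < 4
  · rw [if_pos h, (tetSum_oct _).1, sx, if_pos h]
    simp [tetSign, coord]
  · rw [if_neg h, (tetSum_oct _).2, sx, if_neg h]
    simp [tetSign, coord]

theorem onOct_sext {v : leechLattice} (hv : OnOct v) :
    OnOct (sextetElt sext_isSextet • v) :=
  onOct_of_fix (by rw [← mul_smul, ← sextet_comm, mul_smul, t0_fix hv])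

/-- The permutation bringing the fixed vector back. -/
def back : Equiv.Perm (Fin 8) := Equiv.swap 0 2 * Equiv.swap 1 3

theorem back_test : Equiv.Perm.sign back = 1 ∧
    (∀ i, sx ![4, 4, 0, 0, 0, 0, 0, 0] (back.symm i) = ![4, 4, 0, 0, 0, 0, 0, 0] i) ∧
    actC (fun x i => sx x (back.symm i)) (Sum.elim ![0, 0, 0] ![1, 0, 0])
      = Sum.elim ![0, 0, 1] ![0, 0, 1] := by decide +kernel

theorem exists_sextet_elt :
    ∃ g : C, ∀ v, OnOct v → coord (toCo0 g • v) = fun i => sx (coord v) (back.symm i) := by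
  obtain ⟨g, hcomm, hg⟩ := exists_move back_test.1 isCode_empty
  have hsg : ∀ i, sgn ∅ i = 1 := fun i => if_neg (Finset.notMem_empty _)
  have hc : g * sextetElt sext_isSextet * t0 = t0 * (g * sextetElt sext_isSextet) := by
    rw [mul_assoc, sextet_comm, ← mul_assoc, hcomm, mul_assoc]
  have hco : ∀ v, OnOct v → coord ((g * sextetElt sext_isSextet) • v) =
      fun i => sx (coord v) (back.symm i) := fun v hv => by
    rw [mul_smul, (hg _ (onOct_sext hv)).2, coord_sext]
    funext i
    rw [hsg, one_mul]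
  have hfix : (g * sextetElt sext_isSextet) • uu = uu := by
    refine ext_of_coord ?_ onOct_uu ?_
    · rw [mul_smul]; exact (hg _ (onOct_sext onOct_uu)).1
    · rw [hco _ onOct_uu, coord_uu]
      funext i
      exact back_test.2.1 i
  exact ⟨mkC _ hfix hc, fun v hv => by rw [toCo0_mkC]; exact hco v hv⟩

/-- Two sign changes among the last six points. -/
def twoSet : Finset GolayPt := setOfMask 7438406

theorem twoSet_code : IsCode twoSet := isCode_mask (by decide +kernel)

theorem sgn_two : ∀ i : Fin 8, sgn twoSet i = if i = 2 ∨ i = 3 then -1 else 1 := by decide +kernel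

theorem two_test :
    (∀ i : Fin 8, (if i = 2 ∨ i = 3 then (-1 : ℤ) else 1) * ![4, 4, 0, 0, 0, 0, 0, 0] i
      = ![4, 4, 0, 0, 0, 0, 0, 0] i) ∧
    actC (fun x i => (if i = 2 ∨ i = 3 then (-1 : ℤ) else 1) * x i)
        (Sum.elim ![0, 0, 1] ![0, 0, 1]) = Sum.elim ![1, 0, 0] ![0, 0, 1] := by decide +kernel

theorem exists_flip_elt : ∃ g : C, ∀ v, OnOct v →
    coord (toCo0 g • v) = fun i => (if i = 2 ∨ i = 3 then (-1 : ℤ) else 1) * coord v i := by
  obtain ⟨g, hcomm, hg⟩ := exists_move (π := 1) (map_one _) twoSet_code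
  have hco : ∀ v, OnOct v → coord (g • v) =
      fun i => (if i = 2 ∨ i = 3 then (-1 : ℤ) else 1) * coord v i := fun v hv => by
    rw [(hg v hv).2]
    funext i
    rw [sgn_two]
    rfl
  refine ⟨mkC g (ext_of_coord (hg _ onOct_uu).1 onOct_uu ?_) hcomm, fun v hv => ?_⟩
  · rw [hco _ onOct_uu, coord_uu]
    funext i
    exact two_test.1 i
  · rw [toCo0_mkC]; exact hco v hv

theorem inT_conj {a : V6} (ha : InT a) {g : Isom (stdForm 3 (ZMod 2))} (hg : g ∈ rho.range) :
    InT (g • a) := by
  unfold InT at *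
  rw [← transv_conj]
  exact mul_mem (mul_mem hg ha) (inv_mem hg)

theorem inT_add {v w : V6} (hv : InT v) (hw : InT w) (h : form3 w v = 1) : InT (v + w) := by
  have := inT_conj hw hv
  rwa [transv_smul, one_mul, form3_eq, h, one_smul, add_comm] at this

/-- The centres to start from. -/
def start : Finset V6 :=
  insert (Sum.elim ![1, 0, 0] ![0, 0, 1]) (insert (Sum.elim ![0, 0, 1] ![0, 0, 1])
    (seeds.map Prod.fst).toFinset)

theorem inT_first : InT (Sum.elim ![0, 0, 1] ![0, 0, 1]) := by
  obtain ⟨g, hg⟩ := exists_sextet_elt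
  have h2 := inT_conj (inT_seed (p := (Sum.elim ![0, 0, 0] ![1, 0, 0], pm 3 4))
    (by simp [seeds])) (g := rho g) ⟨g, rfl⟩
  rwa [rho_smul, act_eq (f := fun x i => sx x (back.symm i)) hg, back_test.2.2] at h2

theorem inT_start {a : V6} (ha : a ∈ start) : InT a := by
  rw [start, Finset.mem_insert, Finset.mem_insert, List.mem_toFinset, List.mem_map] at ha
  rcases ha with rfl | rfl | ⟨p, hp, rfl⟩
  · obtain ⟨g, hg⟩ := exists_flip_elt
    have h2 := inT_conj inT_first (g := rho g) ⟨g, rfl⟩
    rwa [rho_smul, act_eq (f := fun x i => (if i = 2 ∨ i = 3 then (-1 : ℤ) else 1) * x i) hg,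
      two_test.2] at h2
  · exact inT_first
  · exact inT_seed hp

/-- The vector with the given bits. -/
def dec (k : ℕ) : V6 := fun x =>
  if k.testBit (Sum.elim (fun i : Fin 3 => (i : ℕ)) (fun i : Fin 3 => 3 + (i : ℕ)) x) then 1 else 0

theorem dec_xor (a b : ℕ) : dec a + dec b = dec (a ^^^ b) := by
  funext x
  simp only [dec, Pi.add_apply, Nat.testBit_xor]
  cases a.testBit (Sum.elim (fun i : Fin 3 => (i : ℕ)) (fun i : Fin 3 => 3 + (i : ℕ)) x) <;>
    cases b.testBit (Sum.elim (fun i : Fin 3 => (i : ℕ)) (fun i : Fin 3 => 3 + (i : ℕ)) x) <;> decide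

/-- Run a derivation of centres. -/
def chk : List ℕ → List (ℕ × ℕ) → Bool
  | L, [] => (List.range 63).all fun a => L.contains (a + 1)
  | L, (a, b) :: r =>
    L.contains a && L.contains b && decide (form3 (dec b) (dec a) = 1) && chk ((a ^^^ b) :: L) r

theorem inT_chk : ∀ (r : List (ℕ × ℕ)) (L : List ℕ), (∀ a ∈ L, InT (dec a)) → chk L r = true →
    ∀ k, k < 63 → InT (dec (k + 1))
  | [], L, hL, h, k, hk => by
    simp only [chk, List.all_eq_true, List.mem_range, List.contains_eq_mem, decide_eq_true_eq] at h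
    exact hL _ (h k hk)
  | (a, b) :: r, L, hL, h, k, hk => by
    simp only [chk, Bool.and_eq_true, List.contains_eq_mem, decide_eq_true_eq] at h
    refine inT_chk r _ (fun c hc => ?_) h.2 k hk
    rcases List.mem_cons.1 hc with rfl | hc
    · rw [← dec_xor]; exact inT_add (hL _ h.1.1.1) (hL _ h.1.1.2) h.1.2
    · exact hL _ hc

theorem start_codes : ∀ a ∈ [33, 36, 1, 8, 21, 2, 16, 4], dec a ∈ start := by decide +kernel

theorem chk_ok : chk [33, 36, 1, 8, 21, 2, 16, 4] [(33, 36), (33, 8), (33, 21), (33, 4), (36, 21), (36, 4), (36, 41), (1, 8), (1, 41), (1, 13), (8, 21), (8, 37), (8, 49), (21, 2), (21, 37), (21, 32), (21, 13), (21, 9), (21, 12), (2, 16), (2, 52), (2, 49), (2, 29), (2, 57), (2, 48), (2, 53), (2, 24), (2, 28), (2, 25), (16, 23), (16, 54), (16, 51), (16, 31), (16, 59), (16, 50), (16, 55), (16, 26), (16, 30), (16, 27), (4, 40), (4, 57), (4, 59), (4, 43), (33, 53), (33, 25), (33, 55), (33, 27), (33, 39), (33, 11), (1, 61), (1, 63), (1, 47), (8, 25), (8, 27), (8, 11)]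 = true := by decide +kernel

theorem dec_cover : ∀ c : V6, c = 0 ∨ ∃ k : Fin 63, dec (k + 1) = c := by decide +kernel

theorem inT_all (a : V6) (ha : a ≠ 0) : InT a := by
  rcases dec_cover a with h | ⟨k, hk⟩
  · exact absurd h ha
  · rw [← hk]
    exact inT_chk _ _ (fun c hc => inT_start (start_codes c hc)) chk_ok k k.2

/-- The action is surjective. -/
theorem rho_surjective : Function.Surjective rho := by
  rw [← MonoidHom.range_eq_top, eq_top_iff, ← TG_eq_top (isSympForm_stdForm 3 (ZMod 2)), TG,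
    Subgroup.closure_le]
  rintro _ ⟨⟨a, c⟩, rfl⟩
  rcases zmod2_cases c with rfl | rfl
  · show transv _ a 0 ∈ rho.range
    rw [transv_zero]; exact one_mem _
  · by_cases ha : a = 0
    · show transv _ a 1 ∈ rho.range
      rw [ha, transv_vec_zero]; exact one_mem _
    · exact inT_all a ha

end Cfsg.Agent.Lib.Co2Cent
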