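import Cfsg.Agent.Lib.Co2Cent.Oct
import Cfsg.Agent.Lib.Leech.Order
import Cfsg.Agent.Lib.LeechMod2.MinNorm
import Cfsg.Agent.Lib.Symplectic.Std
import Cfsg.Prelude.Def_Spor_Conway

/-!
Lattice vectors on the octad orthogonal to the fixed vector, and their reduction to the symplectic
space of dimension six.
-/

set_option autoImplicit false

namespace Cfsg.Agent.Lib.Co2Cent

open Cfsg Cfsg.Agent.Lib.Leech Cfsg.Agent.Lib.Symplectic

/-- The fixed vector. -/
abbrev uu : leechLattice := Spor.leechU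

/-- The coordinates on the octad. -/
def coord (v : leechLattice) : Fin 8 → ℤ := fun i => vec v (pts i)

/-- Supported on the octad. -/
def OnOct (v : leechLattice) : Prop := ∀ p, p ∉ oct → vec v p = 0

/-- The working lattice: supported on the octad and orthogonal to the fixed vector. -/
def InW (v : leechLattice) : Prop := OnOct v ∧ vec v none + vec v (some 0) = 0

/-- Congruence conditions on the coordinates of a lattice vector on the octad. -/
structure Cong (x : Fin 8 → ℤ) : Prop where
  even : ∀ i, x i % 2 = 0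
  four : ∀ i, x i % 4 = x 0 % 4
  eight : (∑ i, x i) % 8 = 0

theorem coord_add (v w : leechLattice) : coord (v + w) = coord v + coord w := rfl

theorem coord_sub (v w : leechLattice) : coord (v - w) = coord v - coord w := rfl

theorem ext_of_coord {v w : leechLattice} (hv : OnOct v) (hw : OnOct w) (h : coord v = coord w) :
    v = w := by
  apply Subtype.ext
  funext p
  by_cases hp : p ∈ oct
  · obtain ⟨i, rfl⟩ := (mem_oct_iff p).1 hp
    exact congrFun h i
  · exact (hv p hp).trans (hw p hp).symm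

theorem cong_of_onOct {v : leechLattice} (hv : OnOct v) : Cong (coord v) := by
  obtain ⟨p, hp⟩ : ∃ p : GolayPt, p ∉ oct := ⟨_, Golay.basePt7_notMem⟩
  rcases mem_leech_iff.1 v.2 with h | h
  · refine ⟨fun i => h.1 _, fun i => ?_, ?_⟩
    · have h1 := h.1 (pts i)
      have h2 := h.1 (pts 0)
      rcases code_sub h.2.1 (fun q hq => by
        by_contra hn
        rw [mem_res] at hq
        have : vec v q = 0 := hv q hn
        simp only [vec] at this
        omega) with e | e
      · have e1 : pts i ∉ res 2 (vec v) := by simp [e]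
        have e2 : pts 0 ∉ res 2 (vec v) := by simp [e]
        rw [mem_res] at e1 e2
        simp only [coord]
        simp only [vec] at *
        omega
      · have e1 : pts i ∈ res 2 (vec v) := e ▸ pts_mem i
        have e2 : pts 0 ∈ res 2 (vec v) := e ▸ pts_mem 0
        rw [mem_res] at e1 e2
        simp only [coord]
        simp only [vec] at *
        omega
    · have := h.2.2
      rw [sum_oct (vec v) hv] at this
      exact this
  · have h1 := h.1 p
    have h2 : vec v p = 0 := hv p hp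
    simp only [vec] at h2
    omega

/-- The vector on all points with given coordinates on the octad. -/
def emb (x : Fin 8 → ℤ) (p : GolayPt) : ℤ := ∑ i, if pts i = p then x i else 0

theorem emb_pts (x : Fin 8 → ℤ) (i : Fin 8) : emb x (pts i) = x i := by
  rw [emb, Finset.sum_eq_single i (fun j _ hj => if_neg (fun h => hj (pts_inj h)))
    (fun h => absurd (Finset.mem_univ i) h), if_pos rfl]

theorem emb_off (x : Fin 8 → ℤ) {p : GolayPt} (hp : p ∉ oct) : emb x p = 0 := by
  refine Finset.sum_eq_zero fun i _ => if_neg (fun (h : pts i = p) => hp (h ▸ pts_mem i))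

theorem emb_mem {x : Fin 8 → ℤ} (h : Cong x) : emb x ∈ leechLattice := by
  refine evenVec_mem ⟨fun p => ?_, ?_, ?_⟩
  · by_cases hp : p ∈ oct
    · obtain ⟨i, rfl⟩ := (mem_oct_iff p).1 hp
      rw [emb_pts]; exact h.even i
    · rw [emb_off x hp]; rfl
  · have h0 := h.even 0
    rcases (show x 0 % 4 = 0 ∨ x 0 % 4 = 2 by omega) with e | e
    · convert isCode_empty using 1
      ext p
      simp only [mem_res, Finset.notMem_empty, iff_false]
      by_cases hp : p ∈ oct
      · obtain ⟨i, rfl⟩ := (mem_oct_iff p).1 hp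
        rw [emb_pts, h.four, e]; decide
      · rw [emb_off x hp]; decide
    · convert oct_isCode using 1
      ext p
      rw [mem_res]
      by_cases hp : p ∈ oct
      · obtain ⟨i, rfl⟩ := (mem_oct_iff p).1 hp
        simp [emb_pts, h.four, e, pts_mem]
      · simp [emb_off x hp, hp]
  · rw [sum_oct (emb x) (fun p hp => emb_off x hp)]
    simp only [emb_pts]
    exact h.eight

/-- Lattice vectors from coordinates. -/
def ofCoord (x : Fin 8 → ℤ) (h : Cong x) : leechLattice := ⟨emb x, emb_mem h⟩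

theorem coord_ofCoord (x : Fin 8 → ℤ) (h : Cong x) : coord (ofCoord x h) = x :=
  funext fun i => emb_pts x i

theorem onOct_ofCoord (x : Fin 8 → ℤ) (h : Cong x) : OnOct (ofCoord x h) :=
  fun _ hp => emb_off x hp

theorem coord_uu : coord uu = ![4, 4, 0, 0, 0, 0, 0, 0] := by
  funext i; revert i; decide +kernel

theorem onOct_uu : OnOct uu := by
  intro p; revert p; decide +kernel

theorem InW.onOct {v : leechLattice} (h : InW v) : OnOct v := h.1

theorem InW.perp {v : leechLattice} (h : InW v) : coord v 0 + coord v 1 = 0 := h.2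

theorem dot_coord {v : leechLattice} (hv : OnOct v) (w : leechLattice) :
    dotInt (vec v) (vec w) = ∑ i, coord v i * coord w i := by
  rw [dotInt]
  exact sum_oct _ (fun p hp => by rw [hv p hp, zero_mul])

theorem inW_add {v w : leechLattice} (hv : InW v) (hw : InW w) : InW (v + w) := by
  refine ⟨fun p hp => ?_, ?_⟩
  · show vec v p + vec w p = 0
    rw [hv.1 p hp, hw.1 p hp]; rfl
  · show (vec v none + vec w none) + (vec v (some 0) + vec w (some 0)) = 0
    linarith [hv.2, hw.2]

theorem inW_neg {v : leechLattice} (hv : InW v) : InW (-v) := by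
  refine ⟨fun p hp => ?_, ?_⟩
  · show -vec v p = 0
    rw [hv.1 p hp]; rfl
  · show -vec v none + -vec v (some 0) = 0
    linarith [hv.2]

theorem inW_zero : InW 0 := ⟨fun _ _ => rfl, rfl⟩

theorem inW_sub {v w : leechLattice} (hv : InW v) (hw : InW w) : InW (v - w) := by
  rw [sub_eq_add_neg]; exact inW_add hv (inW_neg hw)

/-- The symplectic space. -/
abbrev V6 : Type := Fin 3 ⊕ Fin 3 → ZMod 2

/-- The six pairings with the chosen symplectic basis. -/
def pair6 (x : Fin 8 → ℤ) : Fin 3 ⊕ Fin 3 → ℤ :=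
  Sum.elim ![(x 3 - x 4) / 4, (x 6 - x 7) / 4,
      (x 0 - x 1 - x 2 - x 3 - x 4 + x 5 + x 6 + x 7) / 8]
    ![(x 2 - x 3) / 4, (x 5 - x 6) / 4, (x 0 - x 1) / 4]

/-- Reduction. -/
def phi (v : leechLattice) : V6 := fun k => ((pair6 (coord v) k : ℤ) : ZMod 2)

theorem pair6_add {x y : Fin 8 → ℤ} (hx : Cong x) (hxp : x 0 + x 1 = 0) (hy : Cong y)
    (hyp : y 0 + y 1 = 0) (k : Fin 3 ⊕ Fin 3) :
    pair6 (x + y) k = pair6 x k + pair6 y k := by
  obtain ⟨he, hf, hs⟩ := hx
  obtain ⟨ge, gf, gs⟩ := hy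
  rw [Fin.sum_univ_eight] at hs gs
  have := he 0; have := hf 1; have := hf 2; have := hf 3; have := hf 4; have := hf 5
  have := hf 6; have := hf 7
  have := ge 0; have := gf 1; have := gf 2; have := gf 3; have := gf 4; have := gf 5
  have := gf 6; have := gf 7
  rcases k with k | k <;> fin_cases k <;> simp [pair6] <;> omega

theorem phi_add {v w : leechLattice} (hv : InW v) (hw : InW w) :
    phi (v + w) = phi v + phi w := by
  funext k
  simp only [phi, Pi.add_apply, coord_add,
    pair6_add (cong_of_onOct hv.1) hv.perp (cong_of_onOct hw.1) hw.perp k, Int.cast_add]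

theorem phi_sub {v w : leechLattice} (hv : InW v) (hw : InW w) :
    phi (v - w) = phi v - phi w := by
  have := phi_add (inW_sub hv hw) hw
  rw [sub_add_cancel] at this
  rw [this, add_sub_cancel_right]

theorem halves {y : Fin 8 → ℤ} (h01 : y 0 + y 1 = 0) (h34 : (y 3 - y 4) % 2 = 0)
    (h67 : (y 6 - y 7) % 2 = 0) (h23 : (y 2 - y 3) % 2 = 0) (h56 : (y 5 - y 6) % 2 = 0)
    (hh : (y 0 - y 1 - y 2 - y 3 - y 4 + y 5 + y 6 + y 7) % 4 = 0)
    (hs : (y 0 + y 1 + y 2 + y 3 + y 4 + y 5 + y 6 + y 7) % 2 = 0) :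
    ∃ n : ℤ, (n = 0 ∨ n = 1) ∧
      Cong ![2 * y 0 - 2 * n, 2 * y 1 - 2 * n, 2 * y 2, 2 * y 3, 2 * y 4, 2 * y 5, 2 * y 6,
        2 * y 7] := by
  refine ⟨(y 0 - y 2) % 2, Int.emod_two_eq_zero_or_one _, fun i => ?_, fun i => ?_, ?_⟩
  · fin_cases i <;> simp <;> omega
  · fin_cases i <;> simp <;> omega
  · rw [Fin.sum_univ_eight]; simp; omega

/-- A vector of the working lattice that reduces to zero is twice a vector up to the fixed one. -/
theorem phi_eq_zero {v : leechLattice} (hv : InW v) (h : phi v = 0) :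
    ∃ z : leechLattice, OnOct z ∧ (v = z + z ∨ v = uu + (z + z)) := by
  obtain ⟨he, hf, hs⟩ := cong_of_onOct hv.1
  have hp := hv.perp
  have hk : ∀ k, pair6 (coord v) k % 2 = 0 := fun k => by
    have := congrFun h k
    simp only [phi, Pi.zero_apply, ZMod.intCast_zmod_eq_zero_iff_dvd] at this
    omega
  have k1 : (coord v 3 - coord v 4) / 4 % 2 = 0 := hk (Sum.inl 0)
  have k2 : (coord v 6 - coord v 7) / 4 % 2 = 0 := hk (Sum.inl 1)
  have k3 : (coord v 0 - coord v 1 - coord v 2 - coord v 3 - coord v 4 + coord v 5 + coord v 6 +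
      coord v 7) / 8 % 2 = 0 := hk (Sum.inl 2)
  have k4 : (coord v 2 - coord v 3) / 4 % 2 = 0 := hk (Sum.inr 0)
  have k5 : (coord v 5 - coord v 6) / 4 % 2 = 0 := hk (Sum.inr 1)
  have k6 : (coord v 0 - coord v 1) / 4 % 2 = 0 := hk (Sum.inr 2)
  have hz0 : coord v 0 % 4 = 0 := by have := he 0; omega
  have hd : ∀ i, ∃ q, coord v i = 4 * q := fun i =>
    ⟨coord v i / 4, by have := hf i; omega⟩
  choose y hy using hd
  rw [Fin.sum_univ_eight, hy, hy, hy, hy, hy, hy, hy, hy] at hs
  simp only [hy] at k1 k2 k3 k4 k5 k6 hp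
  obtain ⟨n, hn, hc⟩ := halves (y := y) (by omega) (by omega) (by omega) (by omega) (by omega)
    (by omega) (by omega)
  refine ⟨ofCoord _ hc, onOct_ofCoord _ hc, ?_⟩
  rcases hn with rfl | rfl
  · refine Or.inl (ext_of_coord hv.1 ?_ ?_)
    · intro p hp'
      show emb _ p + emb _ p = 0
      rw [emb_off _ hp']; rfl
    · rw [coord_add, coord_ofCoord]
      funext i
      rw [hy]
      fin_cases i <;> simp <;> omega
  · refine Or.inr (ext_of_coord hv.1 ?_ ?_)
    · intro p hp'
      show vec uu p + (emb _ p + emb _ p) = 0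
      rw [emb_off _ hp', onOct_uu p hp']; rfl
    · rw [coord_add, coord_add, coord_ofCoord, coord_uu]
      funext i
      rw [hy]
      fin_cases i <;> simp <;> omega

/-- Coordinates of the lift of a point of the symplectic space. -/
def lift8 (c : V6) : Fin 8 → ℤ :=
  let a1 : ℤ := (c (Sum.inl 0)).val
  let a2 : ℤ := (c (Sum.inl 1)).val
  let a3 : ℤ := (c (Sum.inl 2)).val
  let b1 : ℤ := (c (Sum.inr 0)).val
  let b2 : ℤ := (c (Sum.inr 1)).val
  let b3 : ℤ := (c (Sum.inr 2)).val
  fun i => a1 * ![0, 0, 4, -4, 0, 0, 0, 0] i + a2 * ![0, 0, 0, 0, 0, 4, -4, 0] i +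
    a3 * ![4, -4, 0, 0, 0, 0, 0, 0] i + b1 * ![0, 0, 0, 4, -4, 0, 0, 0] i +
    b2 * ![0, 0, 0, 0, 0, 0, 4, -4] i + b3 * ![2, -2, -2, -2, -2, 2, 2, 2] i

theorem lift8_test : ∀ c : V6, ((∀ i, lift8 c i % 2 = 0) ∧ (∀ i, lift8 c i % 4 = lift8 c 0 % 4) ∧
    (∑ i, lift8 c i) % 8 = 0) ∧ lift8 c 0 + lift8 c 1 = 0 ∧
    (∀ k, ((pair6 (lift8 c) k : ℤ) : ZMod 2) = c k) := by decide +kernel

theorem lift8_cong (c : V6) : Cong (lift8 c) :=
  ⟨(lift8_test c).1.1, (lift8_test c).1.2.1, (lift8_test c).1.2.2⟩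

/-- The lift. -/
def lift (c : V6) : leechLattice := ofCoord (lift8 c) (lift8_cong c)

theorem inW_lift (c : V6) : InW (lift c) := by
  refine ⟨onOct_ofCoord _ _, ?_⟩
  show emb _ (pts 0) + emb _ (pts 1) = 0
  rw [emb_pts, emb_pts]
  exact (lift8_test c).2.1

theorem phi_lift (c : V6) : phi (lift c) = c := by
  funext k
  simp only [phi, lift, coord_ofCoord]
  exact (lift8_test c).2.2 k

theorem form_test : ∀ c d : V6,
    (((∑ i, lift8 c i * lift8 d i) / 16 : ℤ) : ZMod 2) = stdForm 3 (ZMod 2) c d := by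
  intro c d
  rw [stdForm_apply]
  revert c d
  decide +kernel

theorem dot_dvd {v w : leechLattice} (hv : OnOct v) (hw : OnOct w) :
    (16 : ℤ) ∣ dotInt (vec v) (vec w) := by
  obtain ⟨he, hf, hs⟩ := cong_of_onOct hv
  obtain ⟨ge, gf, gs⟩ := cong_of_onOct hw
  rw [dot_coord hv]
  have key : ∀ i, (16 : ℤ) ∣ (coord v i - coord v 0) * (coord w i - coord w 0) := fun i => by
    have h1 : (4 : ℤ) ∣ coord v i - coord v 0 := by have := hf i; omega
    have h2 : (4 : ℤ) ∣ coord w i - coord w 0 := by have := gf i; omega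
    simpa using mul_dvd_mul h1 h2
  have hsum := Finset.dvd_sum (s := Finset.univ) (fun i _ => key i)
  simp only [mul_sub, sub_mul, Finset.sum_sub_distrib, ← Finset.mul_sum, ← Finset.sum_mul,
    Finset.sum_const, Finset.card_univ, Fintype.card_fin, nsmul_eq_mul] at hsum
  obtain ⟨a, ha⟩ : (8 : ℤ) ∣ ∑ i, coord v i := by omega
  obtain ⟨b, hb⟩ : (8 : ℤ) ∣ ∑ i, coord w i := by omega
  obtain ⟨r, hr⟩ : (2 : ℤ) ∣ coord v 0 := by have := he 0; omega
  obtain ⟨s, hs'⟩ : (2 : ℤ) ∣ coord w 0 := by have := ge 0; omega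
  obtain ⟨q, hq⟩ := hsum
  rw [ha, hb, hr, hs'] at hq
  refine ⟨q + a * s + r * b - 2 * r * s, ?_⟩
  push_cast at hq
  linarith

/-- Half the customary product, modulo two. -/
def pairing (v w : leechLattice) : ZMod 2 := ((dotInt (vec v) (vec w) / 16 : ℤ) : ZMod 2)

theorem pairing_congr {v v' w : leechLattice} (hv : InW v) (hv' : InW v') (hw : InW w)
    (h : phi v = phi v') : pairing v w = pairing v' w := by
  obtain ⟨z, hz, e⟩ := phi_eq_zero (inW_sub hv hv') (by rw [phi_sub hv hv', h, sub_self])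
  obtain ⟨a, ha⟩ := dot_dvd hz hw.1
  obtain ⟨b, hb⟩ := dot_dvd hv'.1 hw.1
  have hu : dotInt (vec uu) (vec w) = 0 := by
    rw [dot_coord onOct_uu, coord_uu, Fin.sum_univ_eight]
    have := hw.perp
    simp
    omega
  have hd : dotInt (vec v) (vec w) = dotInt (vec v') (vec w) + 2 * dotInt (vec z) (vec w) := by
    have hlin : ∀ x y : leechLattice, dotInt (vec (x + y)) (vec w) =
        dotInt (vec x) (vec w) + dotInt (vec y) (vec w) := fun x y => by
      simp only [dotInt, vec, AddSubgroup.coe_add, Pi.add_apply, add_mul, Finset.sum_add_distrib]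
    have hv2 : v = v' + (v - v') := by abel
    rw [hv2, hlin]
    rcases e with e | e <;> rw [e, hlin]
    · ring
    · rw [hlin, hu]; ring
  simp only [pairing]
  rw [hd, ha, hb, show (16 : ℤ) * b + 2 * (16 * a) = 16 * (b + 2 * a) by ring,
    Int.mul_ediv_cancel_left _ (by norm_num), Int.mul_ediv_cancel_left _ (by norm_num),
    Int.cast_add, Int.cast_mul]
  rw [show ((2 : ℤ) : ZMod 2) = 0 from rfl, zero_mul, add_zero]

theorem pairing_comm (v w : leechLattice) : pairing v w = pairing w v := by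
  simp only [pairing, dotInt, mul_comm]

theorem pairing_eq {v w : leechLattice} (hv : InW v) (hw : InW w) :
    stdForm 3 (ZMod 2) (phi v) (phi w) = pairing v w := by
  rw [pairing_congr hv (inW_lift (phi v)) hw (phi_lift _).symm, pairing_comm,
    pairing_congr hw (inW_lift (phi w)) (inW_lift _) (phi_lift _).symm, pairing_comm]
  simp only [pairing, lift, dot_coord (onOct_ofCoord _ _), coord_ofCoord]
  exact (form_test _ _).symm

end Cfsg.Agent.Lib.Co2Cent
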